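import Cfsg.Agent.Lib.D8S.Bas

/-! the subgroup of the elements of `S` that do not swap, and small tools (plans/D8S.md) -/

set_option autoImplicit false
set_option linter.unusedSectionVars false

namespace CfsgLib.D8S

open Subgroup Cfsg CfsgLib.Tech CfsgLib.Dih8

variable {G : Type*} [Group G] [Finite G] {A S : Subgroup G} {t z e b s σ τ x : G}

theorem nw_ord {i : G} (i2 : i * i = 1) (i1 : i ≠ 1) : orderOf i = 2 := orderOf_eq_prime (by rwa [pow_two]) i1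

theorem nw_sq {i : G} (h : orderOf i = 2) : i * i = 1 := by rw [← pow_two, ← h, pow_orderOf_eq_one]

theorem nw_ne {i : G} (h : orderOf i = 2) : i ≠ 1 := fun e => by simp [e] at h

theorem nw_pow {i : G} (i2 : i * i = 1) : i ^ 2 ^ 1 = 1 := by rwa [pow_one, pow_two]

theorem nw_csq {g i : G} (h : i * i = 1) : g * i * g⁻¹ * (g * i * g⁻¹) = 1 := by
  rw [conj_mul, h, mul_one, mul_inv_cancel]

theorem nw_cne {g i : G} (h : i ≠ 1) : g * i * g⁻¹ ≠ 1 := fun e => h (conj_eq_one_iff.1 e)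

theorem nw_cc (g : G) {u v : G} (h : Commute u v) : Commute (g * u * g⁻¹) (g * v * g⁻¹) := h.map (MulAut.conj g)

theorem nw_fix {u v : G} : Commute u v ↔ u * v * u⁻¹ = v := mul_inv_eq_iff_eq_mul.symm

theorem nw_cj {g c y : G} {K : Subgroup G} (h : y ∈ cj g K) : c * y * c⁻¹ ∈ cj (c * g) K :=
  cj_mul c g K ▸ conj_mem_cj.2 h

theorem nw_nor {X : Set G} {y : G} (h : ∀ a ∈ X, y * a * y⁻¹ ∈ closure X) : y ∈ normalizer (closure X : Set G) :=
  mem_normalizer_of_cj_le (map_le_iff_le_comap.2 ((closure_le _).2 h))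

theorem nw_gen {R : Subgroup G} (hc : IsCyclic R) : ∃ a : G, closure {a} = R := by
  obtain ⟨a, ha⟩ := (Subgroup.isCyclic_iff_exists_zpowers_eq_top R).1 hc
  exact ⟨a, (zpowers_eq_closure a).symm.trans ha⟩

namespace Loc

variable (h : Loc A S t z e b s σ τ)
include h

/-- `S°` -/
def nsw : Subgroup G where
  carrier := {y | y ∈ S ∧ ¬ Sw z e b y}
  one_mem' := ⟨one_mem _, h.not_sw_D (one_mem _)⟩
  mul_mem' := fun hy hw => ⟨mul_mem hy.1 hw.1, fun m => (h.sw_mul hy.1 hw.1).1 m (iff_of_false hy.2 hw.2)⟩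
  inv_mem' := fun hy => ⟨inv_mem hy.1, fun m => hy.2 ((h.sw_inv hy.1).1 m)⟩

theorem nw_sws {y w : G} (hy : y ∈ S) (hw : w ∈ S) (h1 : Sw z e b y) (h2 : Sw z e b w) : ¬ Sw z e b (y⁻¹ * w) :=
  fun m => (h.sw_mul (inv_mem hy) hw).1 m (iff_of_true ((h.sw_inv hy).2 h1) h2)

theorem nw_R {y k : G} (hy : y ∈ S) (hk : k ∈ S ⊓ KK A) : y * k * y⁻¹ ∈ S ⊓ KK A :=
  mem_inf.2 ⟨mul_mem (mul_mem hy hk.1) (inv_mem hy), h.conj_K (h.S_le hy) hk.2⟩

theorem nw_nR : S ≤ normalizer ((S ⊓ KK A : Subgroup G) : Set G) := fun _ hy =>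
  mem_normalizer_of_forall fun _ hk => h.nw_R hy hk

theorem nw_KA {k a : G} (hk : k ∈ KK A) (ha : a ∈ A) : Commute k a := (hk a ha).symm

theorem rS : e * b ∈ S := mul_mem h.eS h.bS

theorem rA : e * b ∈ A := mul_mem h.eA h.bA

theorem nw_er : e * (e * b) * e⁻¹ = (e * b)⁻¹ := by simp only [h.dg.fq_nf]

theorem nw_ri : (e * b)⁻¹ = e * b * z := by simp only [h.dg.fq_nf]

theorem nw_rne : e * b ≠ (e * b)⁻¹ := fun m => h.dg.z1 (by rw [← h.dg.eb]; exact mul_eq_one_iff_eq_inv.2 m)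

theorem nw_Y {y : G} (hy : y ∈ S) (ye : Commute y e) (yb : Commute y b) :
    ∃ k ∈ S ⊓ KK A, y = k ∨ y = z * k ∨ y = s * k ∨ y = s * z * k := by
  have key : ∀ u ∈ S, Cg A y u → u⁻¹ * y ∈ S ⊓ KK A ∧ y = u * (u⁻¹ * y) := fun u hu m =>
    ⟨mem_inf.2 ⟨mul_mem (inv_mem hu) hy, Cg.iff.1 m.symm⟩, (mul_inv_cancel_left _ _).symm⟩
  rcases h.Y y hy ye yb with m | m | m | m
  · exact ⟨y, ⟨hy, m⟩, Or.inl rfl⟩
  · exact ⟨_, (key _ h.zS m).1, Or.inr (Or.inl (key _ h.zS m).2)⟩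
  · exact ⟨_, (key _ h.sS m).1, Or.inr (Or.inr (Or.inl (key _ h.sS m).2))⟩
  · exact ⟨_, (key _ (mul_mem h.sS h.zS) m).1, Or.inr (Or.inr (Or.inr (key _ (mul_mem h.sS h.zS) m).2))⟩

theorem nw_cz {y u : G} (hy : y ∈ S) : Commute y (u * z) ↔ Commute y u :=
  ⟨fun m => by simpa using m.mul_right (h.zc hy).symm.inv_right, fun m => m.mul_right (h.zc hy).symm⟩

/-- conjugates of elements of `Y` -/
theorem nw_cY {y ρ : G} (ye : Commute y e) (yb : Commute y b) (hρ : ρ ∈ S) :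
    Commute (ρ * y * ρ⁻¹) e ∧ Commute (ρ * y * ρ⁻¹) b := by
  have key : ∀ d ∈ closure ({e, b} : Set G), Commute (ρ * y * ρ⁻¹) d := fun d hd => by
    have := nw_cc ρ (box' (h.conj_D (inv_mem hρ) hd))
    simpa [mul_assoc] using this
  exact ⟨key e DG.fq_e_mem, key b DG.fq_b_mem⟩
where box' {d : G} (hd : d ∈ closure ({e, b} : Set G)) : Commute y d :=
  (mem_centralizer_singleton_iff.1 ((closure_le (centralizer {y})).2 (by
    rintro _ (rfl | rfl)
    exacts [mem_centralizer_singleton_iff.2 ye.symm, mem_centralizer_singleton_iff.2 yb.symm]) hd)).symm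

/-- an element of `S` moving `e` and `b` by `z` lies in `r Y` -/
theorem nw_rY {y : G} (h1 : y * e * y⁻¹ = e * z) (h2 : y * b * y⁻¹ = b * z) :
    Commute ((e * b)⁻¹ * y) e ∧ Commute ((e * b)⁻¹ * y) b := by
  constructor <;> rw [nw_fix]
  · rw [show (e * b)⁻¹ * y * e * ((e * b)⁻¹ * y)⁻¹ = (e * b)⁻¹ * (y * e * y⁻¹) * (e * b) by group, h1]
    simp only [h.dg.fq_nf]
  · rw [show (e * b)⁻¹ * y * b * ((e * b)⁻¹ * y)⁻¹ = (e * b)⁻¹ * (y * b * y⁻¹) * (e * b) by group, h2]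
    simp only [h.dg.fq_nf]

theorem nw_rsq {c : G} (ce : Commute c e) (cb : Commute c b) : e * b * c * (e * b * c) = z * (c * c) := by
  rw [← h.dg.eb, mul_assoc, ← mul_assoc c, (ce.mul_right cb).eq]; simp only [mul_assoc]

/-- an element with its square in `K` commuting with a swap is a swap or lies in `K ⟨z⟩` -/
theorem nw_ofsw {y ρ : G} (hy : y ∈ S) (hn : ¬ Sw z e b y) (y2 : y * y ∈ KK A) (hρ : ρ ∈ S) (hs : Sw z e b ρ)
    (hc : Commute ρ y) : y ∈ KK A ∨ y * z ∈ KK A := by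
  have k1 : Commute y e → Commute y b := fun m => by
    have := nw_cc ρ m
    rw [nw_fix.1 hc] at this
    rcases hs with m' | m' <;> rw [m'] at this
    exacts [this, (h.nw_cz hy).1 this]
  have k2 : Commute y b → Commute y e := fun m => by
    have := nw_cc ρ m
    rw [nw_fix.1 hc] at this
    rcases h.sw hρ hs with m' | m' <;> rw [m'] at this
    exacts [this, (h.nw_cz hy).1 this]
  have fin : Commute y e → y ∈ KK A ∨ y * z ∈ KK A := fun m =>
    h.Y_sw hy m (k1 m) hρ hs (by rw [nw_fix.1 hc]; exact .refl _ _)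
  obtain ⟨m1 | m1, m2 | m2⟩ := h.ns hy hn
  · exact fin (nw_fix.2 m1)
  · exact fin (nw_fix.2 m1)
  · exact fin (k2 (nw_fix.2 m2))
  obtain ⟨c1, c2⟩ := h.nw_rY m1 m2
  have := h.nw_rsq c1 c2
  rw [mul_inv_cancel_left] at this
  exact absurd ((mul_mem_cancel_right (h.Ysq (mul_mem (inv_mem h.rS) hy) c1 c2)).1 (this ▸ y2)) h.zK

/-- a swap commuting with `r` generates `r` modulo `R` -/
theorem nw_r {g : G} {M : Subgroup G} (hg : g ∈ S) (hs : Sw z e b g) (hc : Commute g (e * b)) (gM : g ∈ M)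
    (RM : S ⊓ KK A ≤ M) : e * b ∈ M := by
  have m1 := h.sw_sq hg hs hc
  have m2 : g * g * b * (g * g)⁻¹ = b * z := by
    have := nw_fix.1 (hc.mul_left hc)
    rw [← conj_mul, m1] at this
    rw [eq_inv_mul_of_mul_eq this]; simp only [h.dg.fq_nf]
  obtain ⟨c1, c2⟩ := h.nw_rY m1 m2
  have cS := mul_mem (inv_mem h.rS) (mul_mem hg hg)
  have g2 := mul_mem gM gM
  rcases h.Y_sw cS c1 c2 hg hs (by
    rw [nw_fix.1 (hc.inv_right.mul_right ((Commute.refl g).mul_right (.refl g)))]; exact .refl _ _) with m | m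
  · exact inv_mem_iff.1 ((mul_mem_cancel_right g2).1 (RM ⟨cS, m⟩))
  · have := RM ⟨mul_mem cS h.zS, m⟩
    rw [mul_assoc, ← (h.zc (mul_mem hg hg)).eq, h.nw_ri, mul_assoc _ z, h.dg.fq_zz] at this
    exact (mul_mem_cancel_right g2).1 this

theorem nw_le {M : Subgroup G} (RM : S ⊓ KK A ≤ M) (eM : e ∈ M) (rM : e * b ∈ M) (sM : s ∈ M) {y : G}
    (hy : y ∈ S) (hn : ¬ Sw z e b y) : y ∈ M := by
  have zM : z ∈ M := h.dg.eb ▸ mul_mem rM rM
  obtain ⟨d, hd, c, cS, c1, c2, rfl⟩ := h.dec hy hn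
  refine mul_mem ?_ ?_
  · rcases hd with m | m | m | m <;> rw [m]
    exacts [one_mem _, eM, (mul_mem_cancel_left eM).1 rM, rM]
  · obtain ⟨k, hk, m | m | m | m⟩ := h.nw_Y cS c1 c2 <;> rw [m]
    exacts [RM hk, mul_mem zM (RM hk), mul_mem sM (RM hk), mul_mem (mul_mem sM zM) (RM hk)]

end Loc

end CfsgLib.D8S
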