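import Cfsg.Agent.Lib.D8S.Defs
import Cfsg.Agent.Lib.Dih8.PostS
import Cfsg.Agent.Lib.Comp.FStar
import Cfsg.Agent.Lib.Fusion.RankTwo
import Cfsg.Agent.S0243
import Cfsg.Agent.S2600
import Cfsg.Agent.S2601
import Cfsg.Agent.S2603

/-! PG: outer automorphisms and the diagonal case (plans/D8S.md) -/

set_option autoImplicit false
set_option linter.unusedSectionVars false

namespace CfsgLib.D8S

open Subgroup Cfsg CfsgLib.Tech CfsgLib.Dih8

variable {G : Type*} [Group G] [Finite G] {A K X : Subgroup G} {t : G}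

/-- a normal subgroup of a simple subgroup -/
theorem pg_inf {N : Subgroup G} (sK : IsSimpleGroup K) (hn : ∀ k ∈ K, ∀ n ∈ N, k * n * k⁻¹ ∈ N) :
    N ⊓ K = ⊥ ∨ K ≤ N := by
  have : (N.subgroupOf K).Normal := ⟨fun n hn' k => hn k k.2 n hn'⟩
  rcases sK.eq_bot_or_eq_top_of_normal _ this with h | h
  · exact .inl (disjoint_iff.1 (subgroupOf_eq_bot.1 h))
  · exact .inr (subgroupOf_eq_top.1 h)

theorem pg_comm {N : Subgroup G} (h : N ⊓ K = ⊥) {n k : G} (hn : n ∈ N) (hk : k ∈ K) (h1 : k * n * k⁻¹ ∈ N)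
    (h2 : n * k * n⁻¹ ∈ K) : n * k = k * n := by
  have h3 : n * k * n⁻¹ * k⁻¹ ∈ N ⊓ K := by
    refine mem_inf.2 ⟨?_, mul_mem h2 (inv_mem hk)⟩
    have := mul_mem hn (inv_mem h1)
    convert this using 1
    group
  rw [h, mem_bot, mul_inv_eq_one, mul_inv_eq_iff_eq_mul] at h3
  exact h3

theorem pg_zp (tt : t * t = 1) {x : G} (hx : x ∈ zpowers t) : x = 1 ∨ x = t := by
  obtain ⟨i, rfl⟩ := mem_zpowers_iff.1 hx
  have h2 : t ^ (2 : ℤ) = 1 := by rw [zpow_two, tt]
  obtain ⟨k, rfl | rfl⟩ := Int.even_or_odd' i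
  · left; rw [zpow_mul, h2, one_zpow]
  · right; rw [zpow_add, zpow_mul, h2, one_zpow, one_mul, zpow_one]

theorem comm_eq (nK : K.Normal) (sK : IsSimpleGroup K) (nab : ¬ IsMulCommutative K)
    (cK : centralizer (K : Set G) = ⊥) (h : Nat.card (Out K) ∣ 4) : commutator G = K := by
  have := Fact.mk Nat.prime_two
  refine le_antisymm (Normal.quotient_commutative_iff_commutator_le.1 ?_) ?_
  · obtain ⟨k, hk, h1⟩ := (Nat.dvd_prime_pow Nat.prime_two).1 (((index_dvd_out nK cK).trans h).trans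
      (show 4 ∣ 2 ^ 2 by norm_num))
    by_cases h2 : k = 2
    · exact IsPGroup.isMulCommutative_of_card_eq_prime_sq (p := 2) (h2 ▸ h1)
    · have : IsCyclic (G ⧸ K) := isCyclic_of_card_dvd_prime (p := 2)
        (by rw [← index_eq_card, h1]; interval_cases k <;> simp_all)
      infer_instance
  · rcases pg_inf (N := ⁅K, K⁆) sK (fun k _ n hn => (inferInstance : (⁅K, K⁆ : Subgroup G).Normal).conj_mem n hn k)
      with h1 | h1
    · refine (nab ⟨⟨fun a b => Subtype.ext (commutatorElement_eq_one_iff_mul_comm.1 (mem_bot.1 (h1 ▸ ?_)))⟩⟩).elim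
      exact mem_inf.2 ⟨commutator_mem_commutator a.2 b.2,
        mul_mem (mul_mem (mul_mem a.2 b.2) (inv_mem a.2)) (inv_mem b.2)⟩
    · exact h1.trans (commutator_mono le_top le_top)

theorem aut_iso (nK : K.Normal) (cK : centralizer (K : Set G) = ⊥) (ht : t ∉ K) (h : Nat.card (Out K) = 2)
    {Y : Type*} [Group Y] (e : K ≃* Y) : Nonempty (G ≃* MulAut Y) := by
  have inj : Function.Injective (MulAut.conjNormal : G →* MulAut K) := (injective_iff_map_eq_one _).2 fun g hg => by
    refine mem_bot.1 (cK ▸ mem_centralizer_iff.2 fun k hk => ?_)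
    have := congrArg Subtype.val (DFunLike.congr_fun hg ⟨k, hk⟩)
    simp only [MulAut.conjNormal_apply, MulAut.one_apply] at this
    exact (mul_inv_eq_iff_eq_mul.1 this).symm
  have hI : ∀ k : K, MulAut.conjNormal k.1 = MulAut.conj k := fun k => MulEquiv.ext fun _ => Subtype.ext rfl
  have h3 : (MulAut.conjNormal : G →* MulAut K).range = ⊤ := by
    have h4 : Inn K ≤ (MulAut.conjNormal : G →* MulAut K).range := by rintro _ ⟨k, rfl⟩; exact ⟨k, hI k⟩
    have h5 : (Inn K).index = 2 := h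
    have h6 := relIndex_mul_index h4
    have h7 : (Inn K).relIndex (MulAut.conjNormal : G →* MulAut K).range ≠ 1 := fun h => by
      obtain ⟨k, hk⟩ := relIndex_eq_one.1 h ⟨t, rfl⟩
      exact ht (inj ((hI k).trans hk) ▸ k.2)
    rw [h5] at h6
    rw [((Nat.dvd_prime Nat.prime_two).1 (Dvd.intro _ h6)).resolve_left h7] at h6
    exact index_eq_one.1 (by omega)
  exact ⟨(MulEquiv.ofBijective _ ⟨inj, MonoidHom.range_eq_top.1 h3⟩).trans (MulAut.congr e)⟩

theorem pg_card {U V : Type*} [Group U] [Group V] {φ : U →* V} (h : Function.Surjective φ)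
    (h1 : Nat.card φ.ker = 1) : Nat.card U = Nat.card V :=
  Nat.card_congr (MulEquiv.ofBijective φ ⟨(MonoidHom.ker_eq_bot_iff φ).1 (card_eq_one.1 h1), h⟩).toEquiv

theorem out_sp {F : Type} [Field F] [Fintype F] (h : Fintype.card F = 4) : Nat.card (Out (PSp 2 F)) = 4 :=
  (Cfsg.Agent.S2600.result (f := 2) (by norm_num) h).2

theorem out_su {F : Type} [Field F] [Fintype F] (h : Fintype.card F = 4) : Nat.card (Out (PSU 5 F 2)) = 2 := by
  have := Fact.mk Nat.prime_two
  obtain ⟨φ, h1, -, h2⟩ := Cfsg.Agent.S2603.result (K := F) (p := 2) (f := 1) (q := 2) (n := 5) le_rfl rfl h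
    (by norm_num) (by norm_num)
  rw [pg_card h1 h2, Nat.card_congr Multiplicative.toAdd, Nat.card_zmod]

theorem out_sl {F : Type} [Field F] [Fintype F] (h : Fintype.card F = 2) :
    Nat.card (Out (Matrix.ProjectiveSpecialLinearGroup (Fin 5) F)) = 2 := by
  have := Fact.mk Nat.prime_two
  obtain ⟨φ, h1, -, h2⟩ := Cfsg.Agent.S2601.result (F := F) (p := 2) (f := 1) (n := 5) le_rfl h (by norm_num)
  rw [pg_card h1 h2, Nat.card_congr Multiplicative.toAdd, Nat.card_prod, Nat.card_zmod, Nat.card_zmod]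

theorem card_sl {F : Type} [Field F] [Fintype F] (h : Fintype.card F = 2) :
    Nat.card (Matrix.ProjectiveSpecialLinearGroup (Fin 5) F) = 9999360 := by
  have := Cfsg.Agent.S0243.result h 5 (by norm_num)
  simpa [Fin.prod_univ_succ] using this

/-- case (ii) of S1347 -/
theorem diag (hA : IsStandardSubgroup A) (ht : orderOf t = 2) (sX : IsSimpleGroup X) (nab : ¬ IsMulCommutative X)
    (e : X ≃* A) (h1 : ∀ a ∈ X, ∀ b ∈ X.map (MulAut.conj t).toMonoidHom, a * b = b * a)
    (h2 : X ⊓ X.map (MulAut.conj t).toMonoidHom = ⊥) (h3 : X ⊔ X.map (MulAut.conj t).toMonoidHom = layer G)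
    (h4 : centralizer (A : Set G) = zpowers t) :
    normalClosure (A : Set G) = generalizedFittingSubgroup G ∧
      Nonempty (normalClosure (A : Set G) ≃* A × A) ∧ center A = ⊥ := by
  have hN := Comp.layer_normal (G := G)
  have hF : fittingSubgroup G ≤ centralizer (layer G : Set G) := Comp.fstar_inf_centralizer_layer.ge.trans inf_le_right
  rw [Comp.fstar_def]
  generalize layer G = E at *
  have tt : t * t = 1 := by rw [← pow_two, ← ht, pow_orderOf_eq_one]
  have ti : t⁻¹ = t := inv_eq_of_mul_eq_one_right tt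
  have sA : IsSimpleGroup A := e.symm.isSimpleGroup
  have XE : X ≤ E := h3 ▸ le_sup_left
  have cX : ∀ x ∈ X, t * x * t⁻¹ ∈ X.map (MulAut.conj t).toMonoidHom := fun x hx => ⟨x, hx, rfl⟩
  have zc : ∀ u ∈ zpowers t, ∀ v ∈ zpowers t, u * v = v * u := by
    rintro _ ⟨i, rfl⟩ _ ⟨j, rfl⟩
    exact (Commute.zpow_zpow_self t i j).eq
  have nA : ∀ g, g * t = t * g → g ∈ normalizer (A : Set G) := fun g hg => by
    rw [hA.2.2.2, h4]
    refine mem_normalizer_of_forall fun x hx => ?_
    rcases pg_zp tt hx with rfl | rfl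
    · simp
    · rw [hg, mul_inv_cancel_right]; exact mem_zpowers _
  have AE : A ≤ E := by
    refine (pg_inf sA fun k _ n hn => hN.conj_mem n hn k).resolve_left fun h5 => nab ⟨⟨fun a b => ?_⟩⟩
    have h6 : ∀ x ∈ X, x * (t * x * t⁻¹) ∈ zpowers t := fun x hx => by
      have h7 : x * (t * x * t⁻¹) ∈ E := mul_mem (XE hx) (hN.conj_mem _ (XE hx) t)
      have h8 : x * (t * x * t⁻¹) * t = t * (x * (t * x * t⁻¹)) := by
        rw [h1 x hx _ (cX x hx), ← mul_assoc t, ← mul_assoc t, ← mul_assoc t, tt, one_mul, ← h1 x hx _ (cX x hx), ti,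
          mul_assoc x, mul_assoc _ t t, tt, mul_one, mul_assoc]
      rw [← h4]
      exact fun a ha => (pg_comm h5 h7 ha (hN.conj_mem _ h7 a) (conj_mem_of_mem_normalizer (nA _ h8) ha)).symm
    have h7 := zc _ (h6 a a.2) _ (h6 b b.2)
    have h8 : ∀ x ∈ X, ∀ y ∈ X, x * (t * x * t⁻¹) * (y * (t * y * t⁻¹)) = x * y * (t * (x * y) * t⁻¹) :=
      fun x hx y hy => by
        rw [mul_assoc x, ← mul_assoc _ y, ← h1 y hy _ (cX x hx)]; group
    rw [h8 a a.2 b b.2, h8 b b.2 a a.2] at h7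
    have h9 : ((b : G) * a)⁻¹ * (a * b) ∈ X ⊓ X.map (MulAut.conj t).toMonoidHom := by
      refine mem_inf.2 ⟨mul_mem (inv_mem (mul_mem b.2 a.2)) (mul_mem a.2 b.2), ?_⟩
      have := mul_mem (cX _ (mul_mem b.2 a.2)) (inv_mem (cX _ (mul_mem a.2 b.2)))
      convert this using 1
      rw [inv_mul_eq_iff_eq_mul, ← mul_assoc, ← h7, mul_inv_cancel_right]
    rw [h2, mem_bot, inv_mul_eq_one] at h9
    exact Subtype.ext h9.symm
  have NE : normalClosure (A : Set G) ≤ E := normalClosure_le_normal AE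
  have EX : E ≤ normalizer (X : Set G) := by
    rw [← h3]
    refine sup_le le_normalizer fun y hy => mem_normalizer_of_forall fun x hx => ?_
    rwa [← h1 x hx y hy, mul_inv_cancel_right]
  have XN : X ≤ normalClosure (A : Set G) := by
    refine (pg_inf sX fun k _ n hn => normalClosure_normal.conj_mem n hn k).resolve_left fun h5 =>
      nab ⟨⟨fun a b => Subtype.ext (zc _ ?_ _ ?_)⟩⟩
    all_goals
      rw [← h4]
      exact fun c hc => pg_comm h5 (le_normalClosure hc) (Subtype.prop _)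
        (normalClosure_normal.conj_mem _ (le_normalClosure hc) _)
        (conj_mem_of_mem_normalizer (EX (AE hc)) (Subtype.prop _))
  have hE : normalClosure (A : Set G) = E := by
    refine le_antisymm NE (h3 ▸ sup_le XN ?_)
    rintro _ ⟨x, hx, rfl⟩
    exact normalClosure_normal.conj_mem _ (XN hx) t
  have hF' : fittingSubgroup G ≤ E := fun f hf => by
    rcases pg_zp tt (h4 ▸ centralizer_le AE (hF hf)) with rfl | rfl
    · exact one_mem _
    · refine (nab ⟨⟨fun a b => Subtype.ext ?_⟩⟩).elim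
      have := h1 a a.2 _ (cX b b.2)
      rwa [← hF hf b (XE b.2), mul_inv_cancel_right] at this
  obtain ⟨f⟩ := Fusion.nonempty_sup_equiv_prod h1 h2
  refine ⟨by rw [hE, sup_eq_left.2 hF'], ⟨(MulEquiv.subgroupCongr (hE.trans h3.symm)).trans (f.trans
    (MulEquiv.prodCongr e ((X.equivMapOfInjective _ (MulAut.conj t).injective).symm.trans e)))⟩, ?_⟩
  refine (sA.eq_bot_or_eq_top_of_normal _ inferInstance).resolve_right fun h5 =>
    nab ⟨⟨fun a b => e.injective ?_⟩⟩
  rw [map_mul, map_mul]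
  exact mem_center_iff.1 (h5.ge (mem_top _)) _

end CfsgLib.D8S
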