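import Mathlib
import Cfsg.Agent.Lib.Dih8.Fq1a
import Cfsg.Agent.Lib.StdR2.Gen

/-! Standard subgroups with Sylow 2-subgroups `D₈` (plans/D8S.md): definitions. -/

set_option autoImplicit false

namespace CfsgLib.D8S

open Subgroup Cfsg CfsgLib.Tech CfsgLib.Dih8

variable {G : Type*} [Group G]

/-- `K = C(A)` -/
abbrev KK (A : Subgroup G) : Subgroup G := centralizer (A : Set G)

/-- `H = N(A)` -/
abbrev HH (A : Subgroup G) : Subgroup G := normalizer (A : Set G)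

/-- `x` and `y` act on `A` in the same way (congruence modulo `K`) -/
def Cg (A : Subgroup G) (x y : G) : Prop := ∀ a ∈ A, x * a * x⁻¹ = y * a * y⁻¹

/-- `x` interchanges the two four-groups of `D = ⟨e, b⟩` -/
def Sw (z e b x : G) : Prop := x * e * x⁻¹ = b ∨ x * e * x⁻¹ = b * z

/-- a standard subgroup with a centre of odd order and Sylow 2-subgroups `D₈` -/
structure Std (A : Subgroup G) : Prop where
  st : IsStandardSubgroup A
  zodd : Odd (Nat.card (center A))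
  d8 : ∀ D : Subgroup G, IsSylowIn 2 D A → Nonempty (D ≃* DihedralGroup 4)

/-- the local frame: `S` is a Sylow 2-subgroup of `N(A)`, `S ∩ A = ⟨e, b⟩`, `t` is a central involution of `S` in
`K`, and `C_S(D) = (S ∩ K) ⟨z, s⟩` -/
structure Loc (A S : Subgroup G) (t z e b s σ τ : G) : Prop extends Std A where
  syl : IsSylowIn 2 S (HH A)
  dg : DG t z e b
  tK : t ∈ KK A
  tS : t ∈ S
  tc : ∀ x ∈ S, Commute t x
  eq : S ⊓ A = closure {e, b}
  sS : s ∈ S
  se : Commute s e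
  sb : Commute s b
  s2 : s * s ∈ KK A
  Y : ∀ y ∈ S, Commute y e → Commute y b → y ∈ KK A ∨ Cg A y z ∨ Cg A y s ∨ Cg A y (s * z)
  σA : σ ∈ A
  σz : σ * z * σ⁻¹ = e
  σe : σ * e * σ⁻¹ = e * z
  τA : τ ∈ A
  τz : τ * z * τ⁻¹ = b
  τb : τ * b * τ⁻¹ = b * z
  alt : s = 1 ∨ (Cg A (σ * (s * z) * σ⁻¹) (s * z) ∧ Cg A (τ * s * τ⁻¹) s ∧
    ∀ ρ ∈ S, Sw z e b ρ → Cg A (ρ * s * ρ⁻¹) (s * z))

/-- case I: `S` is not a Sylow 2-subgroup of `G` -/
structure One (A S : Subgroup G) (t z e b s σ τ x : G) : Prop extends Loc A S t z e b s σ τ where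
  four : 4 ≤ Nat.card ↥(S ⊓ KK A)
  xN : x ∈ normalizer (S : Set G)
  xH : x ∉ HH A
  xx : x * x ∈ S
  xz : x * z * x⁻¹ = t

/-- the end of case I: `⟨a⟩ × ⟨x a x⁻¹⟩ ≅ Z₄ × Z₄` has the metacyclic centraliser `⟨a₀, g⟩` in `S` -/
structure End (S : Subgroup G) (t z e x a a₀ g : G) : Prop where
  aS : a ∈ S
  aa : a * a = t
  an : ∀ y ∈ S, y * a * y⁻¹ = a ∨ y * a * y⁻¹ = a⁻¹
  ea : Commute e a
  ew : e * (x * a * x⁻¹) * e⁻¹ = (x * a * x⁻¹)⁻¹
  gn : g ∈ normalizer (closure {a₀} : Set G)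
  cen : ∀ y, y ∈ closure {a₀, g} ↔ y ∈ S ∧ Commute y a ∧ Commute y (x * a * x⁻¹)
  sq : ∀ y ∈ S, y * y * (y * y) = 1 → y * y = 1 ∨ y * y = t ∨ y * y = z ∨ y * y = t * z

/-- case II: `S` is a Sylow 2-subgroup of `G` -/
structure Two (A S : Subgroup G) (t z e b s σ τ : G) : Prop extends Loc A S t z e b s σ τ where
  four : 4 ≤ Nat.card ↥(S ⊓ KK A)
  top : IsSylowIn 2 S ⊤

/-- the involutions of `S` lying in another conjugate of `K` -/
def DD (A S : Subgroup G) (i : G) : Prop := i ∈ S ∧ i * i = 1 ∧ i ≠ 1 ∧ ∃ g, g ∉ HH A ∧ i ∈ cj g (KK A)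

namespace Cg

variable {A : Subgroup G} {x y w x' y' : G}

theorem refl (A : Subgroup G) (x : G) : Cg A x x := fun _ _ => rfl

theorem symm (h : Cg A x y) : Cg A y x := fun a ha => (h a ha).symm

theorem trans (h : Cg A x y) (h' : Cg A y w) : Cg A x w := fun a ha => (h a ha).trans (h' a ha)

theorem iff : Cg A x y ↔ x⁻¹ * y ∈ KK A := by
  refine ⟨fun h a ha => ?_, fun h a ha => ?_⟩
  · calc a * (x⁻¹ * y) = x⁻¹ * (x * a * x⁻¹) * y := by group
      _ = x⁻¹ * y * a := by rw [h a ha]; group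
  · calc x * a * x⁻¹ = x * (a * (x⁻¹ * y)) * y⁻¹ := by group
      _ = y * a * y⁻¹ := by rw [h a ha]; group

theorem one_iff : Cg A x 1 ↔ x ∈ KK A := by
  rw [iff, mul_one, inv_mem_iff]

theorem mul_left (w : G) (h : Cg A x y) : Cg A (w * x) (w * y) := fun a ha => by
  calc w * x * a * (w * x)⁻¹ = w * (x * a * x⁻¹) * w⁻¹ := by group
    _ = _ := by rw [h a ha]; group

theorem mul_right (h : Cg A x y) (hw : w ∈ HH A) : Cg A (x * w) (y * w) := fun a ha => by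
  calc x * w * a * (x * w)⁻¹ = x * (w * a * w⁻¹) * x⁻¹ := by group
    _ = _ := by rw [h _ (conj_mem_of_mem_normalizer hw ha)]; group

theorem mul (h : Cg A x x') (h' : Cg A y y') (hy : y ∈ HH A) : Cg A (x * y) (x' * y') :=
  (h.mul_right hy).trans (h'.mul_left x')

theorem inv (h : Cg A x y) (hx : x ∈ HH A) : Cg A x⁻¹ y⁻¹ := by
  have := (h.mul_right (inv_mem hx)).mul_left y⁻¹
  rw [mul_inv_cancel, mul_one, inv_mul_cancel_left] at this
  exact this.symm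

theorem conj (h : Cg A x y) (hw : w ∈ HH A) : Cg A (w * x * w⁻¹) (w * y * w⁻¹) :=
  (h.mul_left w).mul_right (inv_mem hw)

theorem mul_K (x : G) (hk : w ∈ KK A) : Cg A (x * w) x := by
  have := (one_iff.2 hk).mul_left x
  rwa [mul_one] at this

theorem K_mul (hk : w ∈ KK A) (hx : x ∈ HH A) : Cg A (w * x) x := by
  have := (one_iff.2 hk).mul_right hx
  rwa [one_mul] at this

theorem mem_K (h : Cg A x y) (hy : y ∈ KK A) : x ∈ KK A := one_iff.1 (h.trans (one_iff.2 hy))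

theorem comm (h : Cg A x y) {a : G} (ha : a ∈ A) (hc : Commute y a) : Commute x a :=
  mul_inv_eq_iff_eq_mul.1 ((h a ha).trans (mul_inv_eq_iff_eq_mul.2 hc))

end Cg

end CfsgLib.D8S
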