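import Cfsg.Agent.Lib.D8S.Bas
import Cfsg.Agent.Lib.Dih8.Fq1
import Cfsg.Agent.Lib.Comp.Quasisimple
import Cfsg.Agent.Lib.Core.Fitting

/-! FR: construction of the frame (plans/D8S.md) -/

set_option autoImplicit false
set_option linter.unusedSectionVars false

namespace CfsgLib.D8S

open Subgroup Cfsg CfsgLib.Tech CfsgLib.Dih8

variable {G : Type*} [Group G] [Finite G] {A S : Subgroup G} {t z e b s σ τ x : G}

open scoped commutatorElement

theorem fr_cases {L T : Subgroup G} (h : FqB t L T z e b) : ∃ σ ∈ L, ∃ τ ∈ L, ∃ s ∈ T,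
    (σ * z * σ⁻¹ = e ∧ σ * e * σ⁻¹ = e * z) ∧ (τ * z * τ⁻¹ = b ∧ τ * b * τ⁻¹ = b * z) ∧
    Commute s e ∧ Commute s b ∧ (s * s = 1 ∨ s * s = t) ∧ (∀ y ∈ T, Commute y e → Commute y b →
      ∃ w, (w = 1 ∨ w = t ∨ w = z ∨ w = t * z) ∧ (y = w ∨ y = s * w)) ∧
    (s = 1 ∨ (Commute σ (s * z) ∧ Commute τ s ∧ ∀ ρ ∈ T, ρ * e * ρ⁻¹ = b → ρ * b * ρ⁻¹ = e →
      ρ * s * ρ⁻¹ = s * z ∨ ρ * s * ρ⁻¹ = s * z * t)) := by
  obtain ⟨σ, sL, s1, s2, s3⟩ := h.exists_sigma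
  obtain ⟨τ, tL, t1, t2, t3⟩ := h.symm.exists_sigma
  refine ⟨σ, sL, τ, tL, ?_⟩
  rcases h.cases with k | ⟨s, sT, sg, -, -, hY, hρ⟩
  · exact ⟨1, one_mem _, ⟨s1, s2⟩, ⟨t1, t2⟩, Commute.one_left _, Commute.one_left _,
      Or.inl (one_mul 1), fun y hy a c => ⟨y, k y hy a c, Or.inl rfl⟩, Or.inl rfl⟩
  have se : Commute (s * z) e := sg.se.mul_left h.dg.fq_ze
  have sb : Commute (s * z) b := sg.sb.mul_left h.dg.fq_zb
  have e2 : s * z * z = s := by rw [mul_assoc, h.dg.z2, mul_one]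
  have m1 : t ∈ closure ({t, z} : Set G) := DG.fq_e_mem
  have m2 : z ∈ closure ({t, z} : Set G) := DG.fq_b_mem
  rcases s3 s sT sg.se sg.sb with a | a <;> rcases t3 s sT sg.sb sg.se with c | c
  · rcases h.zstar sL s1 s2 tL t1 t2 sT sg.se sg.sb a c with k | k <;> refine absurd ?_ sg.sY <;> rw [k]
    exacts [one_mem _, m1]
  · refine ⟨s * z, mul_mem sT h.zT, ⟨s1, s2⟩, ⟨t1, t2⟩, se, sb, ?_, fun y hy ye yb => ?_,
      Or.inr ⟨e2.symm ▸ a, c, fun ρ hr r1 r2 => ?_⟩⟩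
    · rw [bas_cc (h.dg.fq_cz sg.se sg.sb), h.dg.z2, mul_one]
      exact sg.s2
    · obtain ⟨w, hw, k | k⟩ := hY y hy ye yb
      · exact ⟨w, hw, Or.inl k⟩
      refine ⟨z * w, ?_, Or.inr (by rw [← mul_assoc, e2, k])⟩
      rcases hw with k | k | k | k <;> rw [k] <;>
        simp only [← mul_assoc, h.dg.fq_tz.eq, h.dg.z2, mul_one, one_mul, true_or, or_true]
    · rw [← conj_mul, (h.dg.fq_act (h.nD (le_normalizer hr))).1]
      refine (hρ ρ hr r1 r2).imp (fun k => by rw [k]) fun k => ?_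
      rw [k, mul_assoc, h.dg.fq_tz.eq, ← mul_assoc]
  · exact ⟨s, sT, ⟨s1, s2⟩, ⟨t1, t2⟩, sg.se, sg.sb, sg.s2, hY, Or.inr ⟨a, c, hρ⟩⟩
  · rcases h.zstar sL s1 s2 tL t1 t2 (mul_mem sT h.zT) se sb a c with k | k <;>
      refine absurd ?_ sg.sY <;> rw [← e2, k]
    exacts [mul_mem (one_mem _) m2, mul_mem m1 m2]

omit [Finite G] in
theorem fr_syl {Q : Type*} [Group Q] {T N H : Subgroup G} (h : IsSylowIn 2 T N) (hN : N ≤ H)
    (f : H →* Q) : IsSylowIn 2 ((T.subgroupOf H).map f) ((N.subgroupOf H).map f) :=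
  ⟨map_mono fun _ hx => h.le hx, h.pgroup.comap_subtype.map f, fun e => h.not_dvd (e.trans (by
    rw [← relIndex_comap, ← relIndex_subgroupOf hN]
    exact relIndex_dvd_of_le_left _ (le_comap_map f _)))⟩

theorem Std.fr_inv (h : Std A) {u v : G} (hu : u ∈ A) (hv : v ∈ A) (u2 : u * u = 1) (v2 : v * v = 1)
    (k : Cg A u v) : u = v := by
  have k1 := Cg.iff.1 k
  refine inv_mul_eq_one.1 (h.two_AK (mul_mem (inv_mem hu) hv) k1 (j := 1) ?_)
  rw [pow_one, pow_two, mul_assoc, k1 v hv, mul_assoc, v2, mul_one, ← mul_inv_rev, u2, inv_one]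

theorem Std.fr_t (h : Std A) (hS : IsSylowIn 2 S (HH A)) :
    ∃ t ∈ KK A, t ∈ S ∧ t * t = 1 ∧ t ≠ 1 ∧ ∀ y ∈ S, Commute t y := by
  have hR := hS.inf_of_le_normalizer h.nm.le
  rw [inf_eq_right.2 h.K_le] at hR
  obtain ⟨t, ht, o⟩ := StdR2.exists_inv_of_pgroup hR.pgroup.to_inf_left
    (Core.inf_centralizer_ne_bot_of_isPGroup hR.pgroup hS.pgroup (fun y hy => mem_normalizer_of_forall
      fun u hu => ⟨S.mul_mem (S.mul_mem hy hu.1) (S.inv_mem hy), h.conj_K (hS.le hy) hu.2⟩) fun k =>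
        hR.not_dvd (by rw [k, relIndex_bot_left]; exact h.ti.1.two_dvd))
  exact ⟨t, ht.1.2, ht.1.1, StrEmb.mul_self_of_orderOf o, StrEmb.ne_one_of_orderOf o,
    fun y hy => (ht.2 y hy).symm⟩

theorem Std.fr_fqb (h : Std A) (hS : IsSylowIn 2 S (HH A)) {z e b : HH A} (dg : DG t (z : G) e b)
    (eq : S ⊓ A = closure {(e : G), (b : G)}) {Q : Type*} [Group Q] [Finite Q] {f : HH A →* Q} {u : Q}
    (F1 : ∀ x y, f x = f y ↔ Cg A x y) (F2 : ∀ q, ∃ x, q = f x ∨ q = f x * u) (F3 : ∀ q, Commute q u)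
    (F4 : u * u = 1) (F5 : ∀ x, f x ≠ u) {T : Subgroup Q} (hT : IsSylowIn 2 T ⊤)
    (ST : (S.subgroupOf (HH A)).map f ≤ T) :
    FqB u ((A.subgroupOf (HH A)).map f) T (f z) (f e) (f b) := by
  have hD := hS.inf_of_le_normalizer (N := A) le_rfl
  rw [inf_eq_right.2 le_normalizer] at hD
  have hD' := fr_syl hD le_normalizer f
  have K1 : ∀ x, f x = 1 ↔ (x : G) ∈ KK A := fun x => by rw [← map_one f, F1]; exact Cg.one_iff
  have D1 : ∀ x : HH A, (x : G) ∈ S ⊓ A → f x = 1 → (x : G) = 1 := fun x hx k =>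
    let ⟨_, hj⟩ := isPGroup_iff_mem.1 hS.pgroup _ hx.1
    h.two_AK hx.2 ((K1 x).1 k) hj
  have e1 : ((S ⊓ A).subgroupOf (HH A)).map f = closure {f e, f b} := by
    rw [← Set.image_pair, ← MonoidHom.map_closure]
    refine congrArg _ (map_injective (HH A).subtype_injective ?_)
    rw [subgroupOf_map_subtype, inf_eq_left.2 (inf_le_left.trans hS.le), MonoidHom.map_closure,
      Set.image_pair, eq]
    rfl
  have mp : ∀ {x y w : HH A}, (x : G) * y = w → f x * f y = f w := fun k =>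
    (map_mul f _ _).symm.trans (congrArg f (Subtype.ext k))
  refine ⟨⟨⟨?_⟩, ?_, ⟨_, hD', ?_⟩, le_antisymm (fun q hq => ?_) (zpowers_le.2 fun q _ => F3 q),
    StrEmb.orderOf_eq_two F4 fun k => F5 1 (by rw [k, map_one])⟩, hT,
    ⟨(mp (w := 1) dg.e2).trans (map_one f), (mp (w := 1) dg.b2).trans (map_one f),
      (mp (w := 1) dg.z2).trans (map_one f), fun k => dg.z1 (D1 z (eq ▸ dg.fq_z_mem) k),
      map_mul f e b ▸ mp dg.eb, F4, (F3 _).symm, (F3 _).symm, fun k => ?_⟩,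
    e1 ▸ hD'.eq_of_le hT.pgroup.to_inf_left
      (le_inf ((map_mono (comap_mono inf_le_left)).trans ST) hD'.le) inf_le_right⟩
  · rintro _ ⟨a, ha, rfl⟩ q
    obtain ⟨x, hx⟩ := F2 q
    refine ⟨x * a * x⁻¹, conj_mem_of_mem_normalizer (H := A) x.2 ha, ?_⟩
    rw [map_mul, map_mul, map_inv]
    rcases hx with rfl | rfl
    · rfl
    · rw [mul_assoc _ u, ← (F3 _).eq]
      group
  · have := h.st.1.2
    rw [← inclusion_range le_normalizer, ← MonoidHom.range_comp]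
    refine ((QuotientGroup.quotientMulEquivOfEq (M := center A) ?_).trans
      (QuotientGroup.quotientKerEquivRange _)).symm.isSimpleGroup
    rw [Comp.center_eq_subgroupOf_centralizer]
    exact Subgroup.ext fun x => (K1 (inclusion le_normalizer x)).symm
  · obtain ⟨g⟩ := h.d8 _ hD
    rw [← inclusion_range (inf_le_left.trans hS.le), ← MonoidHom.range_comp]
    refine ⟨(MonoidHom.ofInjective ((injective_iff_map_eq_one _).2 fun x k => ?_)).symm.trans g⟩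
    exact Subtype.ext (D1 (inclusion _ x) x.2 k)
  · have k1 := Comp.commutator_eq_bot_of_perfect (Comp.qs_sub_perfect h.st.1)
      (U := ((centralizer ((A.subgroupOf (HH A)).map f : Set Q)).comap f).map (HH A).subtype)
      (commutator_eq_bot_iff_le_centralizer.2 (commutator_le.2 (by
        rintro _ ⟨x, hx, rfl⟩ a ha
        refine (K1 ⁅x, ⟨a, le_normalizer ha⟩⁆).1 ?_
        rw [map_commutatorElement, commutatorElement_eq_one_iff_mul_comm]
        exact (hx _ ⟨_, ha, rfl⟩).symm)))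
    rw [commutator_comm, commutator_eq_bot_iff_le_centralizer] at k1
    have uc : u ∈ centralizer ((A.subgroupOf (HH A)).map f : Set Q) := fun q _ => F3 q
    obtain ⟨x, rfl | rfl⟩ := F2 q
    · rw [(K1 x).2 (k1 ⟨x, hq, rfl⟩)]
      exact one_mem _
    · rw [(K1 x).2 (k1 ⟨x, (mul_mem_cancel_right uc).1 hq, rfl⟩), one_mul]
      exact mem_zpowers u
  · obtain ⟨x, -, k⟩ := e1.ge k
    exact F5 x k

theorem Std.loc_of (h : Std A) (hS : IsSylowIn 2 S (HH A)) (dg : DG t z e b) (tK : t ∈ KK A) (tS : t ∈ S)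
    (tc : ∀ y ∈ S, Commute t y) (eq : S ⊓ A = closure {e, b}) : ∃ s σ τ, Loc A S t z e b s σ τ := by
  have mD : ∀ {d}, d ∈ closure ({e, b} : Set G) ↔ d ∈ S ∧ d ∈ A := by rw [← eq]; rfl
  obtain ⟨eS, eA⟩ := mD.1 DG.fq_e_mem
  obtain ⟨bS, bA⟩ := mD.1 DG.fq_b_mem
  obtain ⟨zS, zA⟩ := mD.1 dg.fq_z_mem
  lift e to HH A using hS.le eS
  lift b to HH A using hS.le bS
  lift z to HH A using hS.le zS
  have : ((KK A).subgroupOf (HH A)).Normal := normal_subgroupOf_of_le_normalizer h.nm.le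
  obtain ⟨π, πs, hπ⟩ : ∃ π : HH A →* HH A ⧸ (KK A).subgroupOf (HH A), Function.Surjective π ∧
      ∀ x y, π x = π y ↔ Cg A x y :=
    ⟨QuotientGroup.mk' _, QuotientGroup.mk'_surjective _, fun _ _ => QuotientGroup.eq.trans Cg.iff.symm⟩
  let f := (MonoidHom.inl _ (Multiplicative (ZMod 2))).comp π
  let p := MonoidHom.fst (HH A ⧸ (KK A).subgroupOf (HH A)) (Multiplicative (ZMod 2))
  have F2 : ∀ q, ∃ x, q = f x ∨ q = f x * (1, Multiplicative.ofAdd 1) := fun ⟨q, c⟩ => by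
    obtain ⟨x, rfl⟩ := πs q
    refine ⟨x, ((by decide : ∀ c : Multiplicative (ZMod 2), c = 1 ∨ c = 1 * Multiplicative.ofAdd 1) c).imp
      (fun k => Prod.ext rfl k) fun k => Prod.ext (mul_one _).symm k⟩
  have hS' := fr_syl hS le_rfl f
  obtain ⟨T, hT, ST⟩ := exists_isSylowIn_ge hS'.pgroup le_top
  have fq := h.fr_fqb hS dg eq (f := f) (fun x y => (Prod.mk_left_inj).trans (hπ x y)) F2
    (fun q => Prod.ext ((mul_one _).trans (one_mul _).symm) (mul_comm _ _)) 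
    (Prod.ext (mul_one _) (by decide : Multiplicative.ofAdd (1 : ZMod 2) * Multiplicative.ofAdd 1 = 1))
    (fun x k => absurd (congrArg Prod.snd k) (by decide : 1 ≠ Multiplicative.ofAdd (1 : ZMod 2))) hT ST
  have mT : ∀ {y : G} (hy : y ∈ S), f ⟨y, hS.le hy⟩ ∈ T := fun hy => ST ⟨_, hy, rfl⟩
  obtain ⟨_, ⟨σ, σA, rfl⟩, _, ⟨τ, τA, rfl⟩, s', sT, ⟨s1, s2⟩, ⟨t1, t2⟩, se, sb, ss, hY, alt⟩ := fr_cases fq
  obtain ⟨s, sS, hs, hs1⟩ : ∃ s : HH A, (s : G) ∈ S ∧ p s' = π s ∧ (s' = 1 → s = 1) := by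
    by_cases k : s' = 1
    · exact ⟨1, one_mem _, by rw [k, map_one, map_one], fun _ => rfl⟩
    obtain ⟨x, hx⟩ := F2 s'
    have k1 : f x ∈ T := by
      rcases hx with rfl | rfl
      exacts [sT, (mul_mem_cancel_right (fq.hq.fq_tT hT)).1 sT]
    obtain ⟨y, hy, k2⟩ := (hS'.eq_of_le (hT.pgroup.to_inf_left) (le_inf ST hS'.le) inf_le_right).le
      ⟨k1, x, x.2, rfl⟩
    refine ⟨y, hy, ?_, fun k' => absurd k' k⟩
    rcases hx with rfl | rfl
    exacts [(congrArg p k2).symm, (mul_one _).trans (congrArg p k2).symm]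
  have pf : ∀ x, p (f x) = π x := fun _ => rfl
  have pt : p (1, Multiplicative.ofAdd 1) = 1 := rfl
  have cv : ∀ {g u v : HH A}, (u : G) ∈ A → (v : G) ∈ A → (u : G) * u = 1 → (v : G) * v = 1 →
      π g * π u * (π g)⁻¹ = π v → (g : G) * u * (g : G)⁻¹ = v := fun {g u v} hu hv u2 v2 k =>
    h.fr_inv (conj_mem_of_mem_normalizer g.2 hu) hv (by rw [conj_mul, u2, mul_one, mul_inv_cancel]) v2
      ((hπ (g * u * g⁻¹) v).1 (by rw [map_mul, map_mul, map_inv, k]))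
  have cs : ∀ {u : HH A}, (u : G) ∈ A → (u : G) * u = 1 → Commute s' (f u) → Commute (s : G) u :=
    fun hu u2 k => mul_inv_eq_iff_eq_mul.1 (cv hu hu u2 u2 (mul_inv_eq_iff_eq_mul.2 (hs ▸ (k.map p).eq)))
  have se' := cs eA dg.e2 se
  have sb' := cs bA dg.b2 sb
  refine ⟨s, σ, τ, h, hS, dg, tK, tS, tc, eq, sS, se', sb', ?_, fun y hy ye yb => ?_, σA,
    cv zA eA dg.z2 dg.e2 (congrArg p s1),
    cv (v := e * z) eA (mul_mem eA zA) dg.e2 (by simp only [coe_mul, dg.fq_nf])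
      ((congrArg p s2).trans (map_mul π e z).symm), τA, cv zA bA dg.z2 dg.b2 (congrArg p t1),
    cv (v := b * z) bA (mul_mem bA zA) dg.b2 (by simp only [coe_mul, dg.fq_nf])
      ((congrArg p t2).trans (map_mul π b z).symm), alt.imp (fun k => congrArg _ (hs1 k))
    fun ⟨c1, c2, c3⟩ => ⟨(hπ (σ * (s * z) * σ⁻¹) (s * z)).1 ?_, (hπ (τ * s * τ⁻¹) s).1 ?_,
      fun ρ hρ k => ?_⟩⟩
  · refine Cg.one_iff.1 ((hπ (s * s) 1).1 ?_)
    rw [map_mul, ← hs, ← map_mul, map_one]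
    rcases ss with k | k <;> rw [k] <;> rfl
  · obtain ⟨w, hw, k⟩ := hY _ (mT hy) (Commute.map (Subtype.ext ye.eq) f) (Commute.map (Subtype.ext yb.eq) f)
    have k1 : p w = π 1 ∨ p w = π z := by
      rcases hw with rfl | rfl | rfl | rfl <;> simp only [map_one, map_mul, pf, pt, one_mul, true_or, or_true]
    rcases k with k | k <;> have k2 := congrArg p k <;> rcases k1 with k1 | k1
    · exact Or.inl (Cg.one_iff.1 ((hπ _ 1).1 (k2.trans k1)))
    · exact Or.inr (Or.inl ((hπ _ z).1 (k2.trans k1)))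
    · exact Or.inr (Or.inr (Or.inl ((hπ ⟨y, hS.le hy⟩ s).1 (by
        rw [← pf, k2, map_mul, hs, k1, map_one, mul_one]))))
    · exact Or.inr (Or.inr (Or.inr ((hπ ⟨y, hS.le hy⟩ (s * z)).1 (by
        rw [← pf, k2, map_mul, hs, k1, map_mul]))))
  · have := (c1.map p).eq
    rw [map_mul, map_mul, map_inv, map_mul, mul_inv_eq_iff_eq_mul]
    rwa [map_mul, hs] at this
  · have := (c2.map p).eq
    rw [map_mul, map_mul, map_inv, mul_inv_eq_iff_eq_mul]
    rwa [hs] at this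
  have k0 := (dg.fq_act (x := ρ) fun g hg => mD.2 ⟨mul_mem (mul_mem hρ (mD.1 hg).1) (inv_mem hρ),
    conj_mem_of_mem_normalizer (hS.le hρ) (mD.1 hg).2⟩).2.resolve_left fun k' => bas_nsw dg k'.1 k
  obtain ⟨d, hd, k1, k2⟩ := dg.fq_act2 k0.1 k0.2
  have dS := mul_mem (mD.1 hd).1 hρ
  have cf : ∀ {u v : HH A}, d * ρ * u * (d * ρ)⁻¹ = v →
      f ⟨_, hS.le dS⟩ * f u * (f ⟨_, hS.le dS⟩)⁻¹ = f v := fun k => by
    rw [← map_mul, ← map_inv, ← map_mul]
    exact congrArg f (Subtype.ext k)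
  have k3 : Cg A (d * ρ * s * (d * ρ)⁻¹) (s * z) := (hπ (⟨_, hS.le dS⟩ * s * (⟨_, hS.le dS⟩)⁻¹) (s * z)).1 (by
    rcases c3 _ (mT dS) (cf k1) (cf k2) with k | k <;>
      simpa only [map_mul, map_inv, pf, pt, hs, mul_one] using congrArg p k)
  have k4 : d ∈ centralizer {(s : G) * z} := (closure_le _).2 (by
    rintro _ (rfl | rfl) <;> refine mem_centralizer_singleton_iff.2 (Commute.symm ?_)
    exacts [se'.mul_left dg.fq_ze, sb'.mul_left dg.fq_zb]) hd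
  have := k3.conj (inv_mem (hS.le (mD.1 hd).1))
  rwa [inv_inv, show d⁻¹ * (d * ρ * s * (d * ρ)⁻¹) * d = ρ * s * ρ⁻¹ by group, mul_assoc _ _ d,
    ← mem_centralizer_singleton_iff.1 k4, inv_mul_cancel_left] at this

theorem Std.exists_loc (h : Std A) (hS : IsSylowIn 2 S (HH A)) : ∃ t z e b s σ τ, Loc A S t z e b s σ τ := by
  have hD := hS.inf_of_le_normalizer (N := A) le_rfl
  rw [inf_eq_right.2 le_normalizer] at hD
  obtain ⟨f⟩ := h.d8 _ hD
  obtain ⟨r, s, hd⟩ := DihSyl.exists_isDih f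
  obtain ⟨t, tK, tS, t2, t1, tc⟩ := h.fr_t hS
  have e1 : s * (s * r) = r := by rw [← mul_assoc, hd.ss, one_mul]
  have e2 : S ⊓ A = closure {s, s * r} := by
    refine le_antisymm (fun x hx => ?_) ((closure_le _).2 ?_)
    · have hr : r ∈ closure {s, s * r} := by
        have := mul_mem (DG.fq_e_mem (e := s) (b := s * r)) DG.fq_b_mem
        rwa [e1] at this
      obtain ⟨i, rfl | rfl⟩ := (hd.mem x).1 hx
      exacts [zpow_mem hr i, mul_mem (zpow_mem hr i) DG.fq_e_mem]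
    · rintro x (rfl | rfl)
      exacts [hd.s_mem, mul_mem hd.s_mem hd.r_mem]
  refine ⟨t, r * r, s, s * r, h.loc_of hS ⟨hd.ss, ?_, ?_, fun e => ?_, by rw [e1], t2,
    tc _ hd.s_mem.1, tc _ (mul_mem hd.s_mem.1 hd.r_mem.1),
    fun ht => t1 (h.two_AK (e2 ▸ ht).2 tK (j := 1) (by rw [pow_one, pow_two, t2]))⟩ tK tS tc e2⟩
  · have := hd.conj
    rw [hd.s_inv] at this
    rw [← mul_assoc, this, inv_mul_cancel]
  · have := pow_orderOf_eq_one r
    rw [hd.ord] at this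
    rw [← this]; simp only [pow_succ, pow_zero, one_mul, mul_assoc]
  · have := orderOf_dvd_of_pow_eq_one ((pow_two r).trans e)
    rw [hd.ord] at this
    omega

theorem Loc.change (h : Loc A S t z e b s σ τ) {S' : Subgroup G} (hS : IsSylowIn 2 S' (HH A)) (he : e ∈ S')
    (hb : b ∈ S') : ∃ t' s' σ' τ', Loc A S' t' z e b s' σ' τ' := by
  obtain ⟨u, uK, uS, u2, u1, uc⟩ := h.fr_t hS
  exact ⟨u, h.loc_of hS { h.dg with t2 := u2, te := uc e he, tb := uc b hb, tD := fun k => u1 (h.DK k uK) }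
    uK uS uc (h.sylA.eq_of_le hS.pgroup.to_inf_left ((closure_le _).2 (by
      rintro _ (rfl | rfl)
      exacts [⟨he, h.eA⟩, ⟨hb, h.bA⟩])) inf_le_right)⟩

end CfsgLib.D8S
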