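import Cfsg.Agent.Lib.D8S.Defs

/-! BAS: basic properties of the frame (plans/D8S.md) -/

set_option autoImplicit false
set_option linter.unusedSectionVars false

namespace CfsgLib.D8S

open Subgroup Cfsg CfsgLib.Tech CfsgLib.Dih8

variable {G : Type*} [Group G] [Finite G] {A S : Subgroup G} {t z e b s σ τ x : G}

omit [Finite G] in
theorem bas_odd {a : G} (ha : a ∈ A) (hk : a ∈ KK A) : a ^ Nat.card (center A) = 1 := by
  have hc : (⟨a, ha⟩ : A) ∈ center A := mem_center_iff.2 fun g => Subtype.ext (hk g g.2)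
  exact congrArg (fun x : center A => ((x : A) : G)) (pow_card_eq_one' (x := ⟨_, hc⟩))

omit [Finite G] in
theorem bas_ord {i : G} (g : G) (i2 : i * i = 1) (i1 : i ≠ 1) : orderOf (g⁻¹ * i * g) = 2 :=
  orderOf_eq_prime (by
    calc _ = g⁻¹ * (i * i) * g := by rw [pow_two]; group
      _ = 1 := by rw [i2]; group) fun k => i1 (by
    calc i = g * (g⁻¹ * i * g) * g⁻¹ := by group
      _ = 1 := by rw [k]; group)

omit [Finite G] in
theorem bas_nsw (h : DG t z e b) {u : G} (h1 : u = e ∨ u = e * z) : ¬ (u = b ∨ u = b * z) := by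
  have k : e ≠ b := fun k => h.fq_ncomm (by rw [k])
  rcases h1 with rfl | rfl <;> rintro (h2 | h2)
  · exact k h2
  · exact h.fq_ncomm (by rw [h2]; simp only [h.fq_nf])
  · exact h.fq_ncomm (by rw [← h2]; simp only [h.fq_nf])
  · exact k (mul_right_cancel h2)

omit [Finite G] in
theorem bas_cc {a c : G} (h : Commute a c) :
    a * c * (a * c) = a * a * (c * c) := h.symm.mul_mul_mul_comm a c

namespace Std

variable (h : Std A)
include h

theorem ti : IsTightlyEmbedded (KK A) := h.st.2.1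

theorem nm : HH A = normalizer (KK A : Set G) := h.st.2.2.2

theorem nc {g : G} (hg : g ∉ HH A) : ¬ A ≤ cj g (KK A) := fun k =>
  h.st.2.2.1 g (fun e => hg (mem_normalizer_iff_cj.2 e))
    (commutator_eq_bot_iff_le_centralizer.2 (k.trans_eq (cj_centralizer g A)))

theorem two_AK {a : G} (ha : a ∈ A) (hk : a ∈ KK A) {j : ℕ} (h2 : a ^ 2 ^ j = 1) : a = 1 := 
  DihSyl.eq_one_of_odd_of_two_pow h.zodd (bas_odd ha hk) h2

theorem K_le : KK A ≤ HH A := h.nm ▸ le_normalizer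

theorem conj_K {g k : G} (hg : g ∈ HH A) (hk : k ∈ KK A) : g * k * g⁻¹ ∈ KK A := 
  conj_mem_of_mem_normalizer (h.nm ▸ hg) hk

theorem cj_K {g : G} (hg : g ∈ HH A) : cj g (KK A) = KK A := mem_normalizer_iff_cj.1 (h.nm ▸ hg)

theorem eq_one {g y : G} (hg : g ∉ HH A) (h1 : y ∈ KK A) (h2 : y ∈ cj g (KK A)) {j : ℕ}
    (h3 : y ^ 2 ^ j = 1) : y = 1 := StdR2.eq_one_of_two h.ti (h.nm ▸ hg) h1 h2 h3

theorem mem_H {i g c : G} (hi : i ∈ cj g (KK A)) (i2 : i * i = 1) (i1 : i ≠ 1)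
    (hc : c * i * c⁻¹ ∈ cj g (KK A)) : c ∈ cj g (HH A) := by
  rw [mem_cj, h.nm]
  refine StdR2.mem_norm_of_conj h.ti (mem_cj.1 hi) (bas_ord g i2 i1) ?_
  convert mem_cj.1 hc using 1
  group

theorem mem_H_of_comm {i g c : G} (hi : i ∈ cj g (KK A)) (i2 : i * i = 1) (i1 : i ≠ 1)
    (hc : Commute c i) : c ∈ cj g (HH A) := 
  h.mem_H hi i2 i1 (by rwa [hc.eq, mul_inv_cancel_right])

theorem conj_cj {g c y : G} (hc : c ∈ cj g (HH A)) (hy : y ∈ cj g (KK A)) : c * y * c⁻¹ ∈ cj g (KK A) := by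
  rw [mem_cj]
  convert h.conj_K (mem_cj.1 hc) (mem_cj.1 hy) using 1
  group

theorem cj_eq {i g g' : G} (hi : i ∈ cj g (KK A)) (hi' : i ∈ cj g' (KK A)) (i2 : i * i = 1) (i1 : i ≠ 1) :
    g⁻¹ * g' ∈ HH A ∧ cj g (KK A) = cj g' (KK A) := by
  have h1 : g⁻¹ * g' ∈ HH A := by
    rw [h.nm]
    refine StdR2.mem_norm_of_conj h.ti (mem_cj.1 hi') (bas_ord g' i2 i1) ?_
    convert mem_cj.1 hi using 1
    group
  exact ⟨h1, by rw [← mul_inv_cancel_left g g', cj_mul, h.cj_K h1]⟩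

/-- an element of `A` commuting modulo `K` with an involution can be corrected -/
theorem lift {a y : G} (ha : a ∈ A) (hy : y ∈ HH A) (y2 : y * y = 1) (hc : Cg A (a * y * a⁻¹) y) :
    ∃ a' ∈ A, Commute a' y ∧ Cg A a' a := by
  obtain ⟨m, hm⟩ := h.zodd
  obtain ⟨ζ, hζ⟩ : ∃ ζ, y * a * y⁻¹ = a * ζ := ⟨a⁻¹ * (y * a * y⁻¹), by group⟩
  have e1 : ζ = a⁻¹ * (y * a * y⁻¹) := by rw [hζ]; group
  have zA : ζ ∈ A := e1 ▸ mul_mem (inv_mem ha) (conj_mem_of_mem_normalizer hy ha)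
  have zK : ζ ∈ KK A := by
    have := Cg.iff.1 ((hc.mul_right (le_normalizer ha)).mul_right (inv_mem hy))
    rwa [show a * y * a⁻¹ * a * y⁻¹ = a by group, ← e1] at this
  have e2 : y * ζ * y⁻¹ = ζ⁻¹ := by
    calc _ = (y * a * y⁻¹)⁻¹ * (y * y * a * (y * y)⁻¹) := by rw [e1]; group
      _ = _ := by rw [hζ, y2]; group
  have e3 := bas_odd zA zK
  rw [hm] at e3
  refine ⟨a * ζ ^ (m + 1), mul_mem ha (pow_mem zA _), (mul_inv_eq_iff_eq_mul.1 ?_).symm,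
    Cg.mul_K _ (pow_mem zK _)⟩
  rw [← conj_mul, hζ, ← conj_pow, e2, ← mul_one (a * ζ * _), ← e3]
  group

end Std

namespace Loc

variable (h : Loc A S t z e b s σ τ)
include h

theorem S_le : S ≤ HH A := h.syl.le

theorem mem_D {d : G} : d ∈ closure ({e, b} : Set G) ↔ d ∈ S ∧ d ∈ A := by rw [← h.eq]; rfl

theorem eS : e ∈ S := (h.mem_D.1 DG.fq_e_mem).1
theorem bS : b ∈ S := (h.mem_D.1 DG.fq_b_mem).1
theorem zS : z ∈ S := (h.mem_D.1 h.dg.fq_z_mem).1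
theorem eA : e ∈ A := (h.mem_D.1 DG.fq_e_mem).2
theorem bA : b ∈ A := (h.mem_D.1 DG.fq_b_mem).2
theorem zA : z ∈ A := (h.mem_D.1 h.dg.fq_z_mem).2

theorem t1 : t ≠ 1 := fun e1 => h.dg.tD (e1 ▸ one_mem _)

theorem two {y : G} (hy : y ∈ S) : ∃ j : ℕ, y ^ 2 ^ j = 1 := isPGroup_iff_mem.1 h.syl.pgroup y hy

theorem sylK : IsSylowIn 2 (S ⊓ KK A) (KK A) := by
  have := h.syl.inf_of_le_normalizer h.nm.le
  rwa [inf_eq_right.2 h.K_le] at this

theorem sylA : IsSylowIn 2 (closure {e, b}) A := by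
  have := h.syl.inf_of_le_normalizer (N := A) le_rfl
  rwa [h.eq, inf_eq_right.2 le_normalizer] at this

theorem DK {d : G} (hd : d ∈ closure ({e, b} : Set G)) (hk : d ∈ KK A) : d = 1 := 
  let ⟨_, hj⟩ := h.two (h.mem_D.1 hd).1
  h.two_AK (h.mem_D.1 hd).2 hk hj

theorem zK : z ∉ KK A := fun k => h.dg.z1 (h.DK h.dg.fq_z_mem k)

theorem conj_D {y d : G} (hy : y ∈ S) (hd : d ∈ closure ({e, b} : Set G)) :
    y * d * y⁻¹ ∈ closure ({e, b} : Set G) := 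
  h.mem_D.2 ⟨mul_mem (mul_mem hy (h.mem_D.1 hd).1) (inv_mem hy),
    conj_mem_of_mem_normalizer (h.S_le hy) (h.mem_D.1 hd).2⟩

theorem zc {y : G} (hy : y ∈ S) : Commute z y := 
  (mul_inv_eq_iff_eq_mul.1 (h.dg.fq_act fun _ hg => h.conj_D hy hg).1).symm

theorem bas_cg {d d' : G} (hd : d ∈ closure ({e, b} : Set G)) (hd' : d' ∈ closure ({e, b} : Set G))
    (k : Cg A d d') : d = d' := inv_mul_eq_one.1 (h.DK (mul_mem (inv_mem hd) hd') (Cg.iff.1 k))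

theorem bas_step {y u p q : G} (hy : y ∈ S) (h1 : u = p ∨ u = p * z)
    (h2 : y * p * y⁻¹ = q ∨ y * p * y⁻¹ = q * z) : y * u * y⁻¹ = q ∨ y * u * y⁻¹ = q * z := by
  rcases h1 with rfl | rfl
  · exact h2
  rw [← conj_mul, ← (h.zc hy).eq, mul_inv_cancel_right]
  rcases h2 with k | k <;> rw [k] <;> simp only [h.dg.fq_nf, true_or, or_true]

theorem bas_sq {d c : G} (hd : d = 1 ∨ d = e ∨ d = b ∨ d = e * b) (ce : Commute c e)
    (cb : Commute c b) : d * c * (d * c) = c * c ∨ d * c * (d * c) = z * (c * c) := by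
  rcases hd with k | k | k | k <;> rw [k]
  · exact Or.inl (by rw [one_mul])
  · exact Or.inl (by rw [bas_cc ce.symm, h.dg.e2, one_mul])
  · exact Or.inl (by rw [bas_cc cb.symm, h.dg.b2, one_mul])
  · exact Or.inr (by rw [bas_cc (ce.mul_right cb).symm, h.dg.eb])

theorem ns {y : G} (hy : y ∈ S) (hn : ¬ Sw z e b y) :
    (y * e * y⁻¹ = e ∨ y * e * y⁻¹ = e * z) ∧ (y * b * y⁻¹ = b ∨ y * b * y⁻¹ = b * z) := 
  (h.dg.fq_act fun _ hg => h.conj_D hy hg).2.resolve_right fun k => hn k.1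

theorem sw {y : G} (hy : y ∈ S) (hs : Sw z e b y) : y * b * y⁻¹ = e ∨ y * b * y⁻¹ = e * z := 
  ((h.dg.fq_act fun _ hg => h.conj_D hy hg).2.resolve_left fun k => bas_nsw h.dg k.1 hs).2

theorem sw_symm {y : G} (hy : y ∈ S) : Sw z b e y ↔ Sw z e b y := 
  ⟨fun k => by_contra fun hn => bas_nsw h.dg k (h.ns hy hn).2, h.sw hy⟩

theorem sw_mul {y w : G} (hy : y ∈ S) (hw : w ∈ S) : Sw z e b (y * w) ↔ ¬ (Sw z e b y ↔ Sw z e b w) := by
  have e1 : Sw z e b (y * w) ↔ y * (w * e * w⁻¹) * y⁻¹ = b ∨ y * (w * e * w⁻¹) * y⁻¹ = b * z := by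
    rw [Sw, show y * w * e * (y * w)⁻¹ = y * (w * e * w⁻¹) * y⁻¹ by group]
  rw [e1]
  by_cases k1 : Sw z e b y <;> by_cases k2 : Sw z e b w
  · exact iff_of_false (bas_nsw h.dg (h.bas_step hy k2 (h.sw hy k1))) (by simp [k1, k2])
  · exact iff_of_true (h.bas_step hy (h.ns hw k2).1 k1) (by simp [k1, k2])
  · exact iff_of_true (h.bas_step hy k2 (h.ns hy k1).2) (by simp [k1, k2])
  · exact iff_of_false (bas_nsw h.dg (h.bas_step hy (h.ns hw k2).1 (h.ns hy k1).1)) (by simp [k1, k2])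

theorem sw_inv {y : G} (hy : y ∈ S) : Sw z e b y⁻¹ ↔ Sw z e b y := by
  have := h.sw_mul (inv_mem hy) hy
  rw [inv_mul_cancel] at this
  exact by_contra fun k => bas_nsw h.dg (Or.inl (by simp)) (this.2 k)

theorem not_sw {y : G} (hc : y * e * y⁻¹ = e ∨ y * e * y⁻¹ = e * z) : ¬ Sw z e b y := bas_nsw h.dg hc

theorem not_sw_D {d : G} (hd : d ∈ closure ({e, b} : Set G)) : ¬ Sw z e b d := by
  refine h.not_sw ?_
  rcases h.dg.fq_mem hd with k | k | k | k | k | k | k | k <;> rw [k] <;>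
    simp only [h.dg.fq_nf, true_or, or_true]

/-- `S° = D Y` -/
theorem dec {y : G} (hy : y ∈ S) (hn : ¬ Sw z e b y) : ∃ d, (d = 1 ∨ d = e ∨ d = b ∨ d = e * b) ∧
    ∃ c ∈ S, Commute c e ∧ Commute c b ∧ y = d * c := by
  obtain ⟨d, hd, c1, c2⟩ := h.dg.fq_act1 (h.ns hy hn).1 (h.ns hy hn).2
  have k : d ∈ S ∧ Commute (d⁻¹ * d⁻¹) e ∧ Commute (d⁻¹ * d⁻¹) b := by
    rcases hd with k | k | k | k <;> rw [k] <;>
      refine ⟨?_, by simp only [commute_iff_eq, h.dg.fq_nf, and_self]⟩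
    exacts [one_mem _, h.eS, h.bS, mul_mem h.eS h.bS]
  exact ⟨d, hd, d⁻¹ * d⁻¹ * (d * y), mul_mem (mul_mem (inv_mem k.1) (inv_mem k.1)) (mul_mem k.1 hy),
    k.2.1.mul_left c1, k.2.2.mul_left c2, by group⟩

theorem r_act {y : G} (hy : y ∈ S) : y * (e * b) * y⁻¹ = e * b ∨ y * (e * b) * y⁻¹ = (e * b)⁻¹ := by
  rw [← conj_mul]
  rcases (h.dg.fq_act fun _ hg => h.conj_D hy hg).2 with ⟨k | k, k' | k'⟩ | ⟨k | k, k' | k'⟩ <;>
    rw [k, k'] <;> simp only [h.dg.fq_nf, true_or, or_true]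

theorem bas_act {y : G} (hy : y ∈ S) (hs : Sw z e b y) :
    (y * (e * b) * y⁻¹ = (e * b)⁻¹ ∧ y * y * e * (y * y)⁻¹ = e ∧ y * y * b * (y * y)⁻¹ = b) ∨
    (y * (e * b) * y⁻¹ = e * b ∧ y * y * e * (y * y)⁻¹ = e * z ∧ y * y * b * (y * y)⁻¹ = b * z) := by
  have e1 : ∀ u, y * y * u * (y * y)⁻¹ = y * (y * u * y⁻¹) * y⁻¹ := fun u => by group
  have e2 : ∀ u, y * (u * z) * y⁻¹ = y * u * y⁻¹ * z := fun u => by
    rw [← conj_mul, ← (h.zc hy).eq, mul_inv_cancel_right]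
  rw [e1, e1, ← conj_mul]
  rcases hs with k | k <;> rcases h.sw hy (by first | exact Or.inl k | exact Or.inr k) with k' | k' <;>
    simp only [k, k', e2] <;> simp only [h.dg.fq_nf, true_or, or_true, and_self]

theorem sw_invert {y : G} (hy : y ∈ S) (hs : Sw z e b y) (h2 : Commute (y * y) e) :
    y * (e * b) * y⁻¹ = (e * b)⁻¹ := 
  ((h.bas_act hy hs).resolve_right fun k => h.dg.z1 (by
    have := k.2.1
    rwa [h2.eq, mul_inv_cancel_right, left_eq_mul] at this)).1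

theorem sw_sq {y : G} (hy : y ∈ S) (hs : Sw z e b y) (hc : Commute y (e * b)) :
    y * y * e * (y * y)⁻¹ = e * z := 
  ((h.bas_act hy hs).resolve_left fun k => h.dg.z1 (by
    have := k.1
    rw [hc.eq, mul_inv_cancel_right] at this
    rw [← h.dg.eb]
    exact mul_eq_one_iff_eq_inv.2 this)).2.1

theorem Ysq {y : G} (hy : y ∈ S) (ye : Commute y e) (yb : Commute y b) : y * y ∈ KK A := by
  have zs := h.dg.fq_cz h.se h.sb
  rcases h.Y y hy ye yb with k | k | k | k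
  · exact mul_mem k k
  all_goals refine (k.mul k (h.S_le hy)).mem_K ?_
  · exact h.dg.z2 ▸ one_mem _
  · exact h.s2
  · rw [mul_assoc, ← mul_assoc z, ← zs.eq, mul_assoc, h.dg.z2, mul_one]
    exact h.s2

theorem sK (hs : s ≠ 1) : s ∉ KK A ∧ ¬ Cg A s z := by
  obtain ⟨c1, c2, -⟩ := h.alt.resolve_left hs
  refine ⟨fun k => ?_, fun k => ?_⟩
  · have k1 : Cg A (s * z) z := Cg.K_mul k (h.S_le h.zS)
    have k2 := ((k1.conj (le_normalizer h.σA)).symm.trans c1).trans k1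
    rw [h.σz] at k2
    exact h.dg.fq_ez (h.bas_cg DG.fq_e_mem h.dg.fq_z_mem k2)
  · have k2 := ((k.conj (le_normalizer h.τA)).symm.trans c2).trans k
    rw [h.τz] at k2
    exact h.dg.fq_symm.fq_ez (h.bas_cg DG.fq_b_mem h.dg.fq_z_mem k2)

/-- an element of `Y` commuting modulo `K` with a swap lies in `K ⟨z⟩` -/
theorem Y_sw {y ρ : G} (hy : y ∈ S) (ye : Commute y e) (yb : Commute y b) (hρ : ρ ∈ S) (hs : Sw z e b ρ)
    (hc : Cg A (ρ * y * ρ⁻¹) y) : y ∈ KK A ∨ y * z ∈ KK A := by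
  have hz : ∀ {y}, Cg A y z → y * z ∈ KK A := fun k =>
    (k.mul_right (h.S_le h.zS)).mem_K (h.dg.z2 ▸ one_mem _)
  have nz : ∀ {u}, ¬ Cg A u (u * z) := fun k => h.zK (by simpa using Cg.iff.1 k)
  rcases h.alt with k0 | ⟨-, -, k0⟩
  · rcases h.Y y hy ye yb with k | k | k | k
    exacts [Or.inl k, Or.inr (hz k), Or.inl (k.mem_K (k0 ▸ one_mem _)),
      Or.inr (hz (by rwa [k0, one_mul] at k))]
  have k1 := k0 ρ hρ hs
  rcases h.Y y hy ye yb with k | k | k | k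
  · exact Or.inl k
  · exact Or.inr (hz k)
  · exact absurd (((k.symm.trans hc.symm).trans (k.conj (h.S_le hρ))).trans k1) nz
  · have k2 := (k.symm.trans hc.symm).trans (k.conj (h.S_le hρ))
    rw [← conj_mul, ← (h.zc hρ).eq, mul_inv_cancel_right] at k2
    exact absurd (k2.trans (k1.mul_right (h.S_le h.zS))) nz

theorem sq4 {y : G} (hy : y ∈ S) (h4 : y * y * (y * y) = 1) : y * y ∈ KK A ∨ y * y * z ∈ KK A := by
  by_cases hs : Sw z e b y
  · rcases h.bas_act hy hs with ⟨-, k1, k2⟩ | ⟨k0, k1, k2⟩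
    · exact h.Y_sw (mul_mem hy hy) (mul_inv_eq_iff_eq_mul.1 k1) (mul_inv_eq_iff_eq_mul.1 k2) hy hs
        (by rw [mul_assoc, mul_inv_cancel_right]; exact Cg.refl _ _)
    have key : ∀ u, y * y * u * (y * y)⁻¹ = u * z → e * b * (u * z) * (e * b)⁻¹ = u →
        Commute (e * b * (y * y)) u := fun u a c =>
      mul_inv_eq_iff_eq_mul.1 (Eq.trans (by rw [← a]; group) c)
    have c : Commute y (e * b) := mul_inv_eq_iff_eq_mul.1 k0
    have := h.Ysq (mul_mem (mul_mem h.eS h.bS) (mul_mem hy hy)) (key _ k1 (by simp only [h.dg.fq_nf]))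
      (key _ k2 (by simp only [h.dg.fq_nf]))
    rw [bas_cc (c.mul_left c).symm, h4, h.dg.eb, mul_one] at this
    exact absurd this h.zK
  obtain ⟨d, hd, c, cS, ce, cb, rfl⟩ := h.dec hy hs
  have k := h.Ysq cS ce cb
  rcases h.bas_sq hd ce cb with k1 | k1 <;> rw [k1]
  · exact Or.inl k
  · exact Or.inr (by rwa [(h.zc (mul_mem cS cS)).eq, mul_assoc, h.dg.z2, mul_one])

theorem liftτ (hs : s ≠ 1) {y : G} (hy : y ∈ HH A) (y2 : y * y = 1) (hc : Cg A y s) :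
    ∃ τ' ∈ A, Commute τ' y ∧ τ' * z * τ'⁻¹ = b ∧ τ' * b * τ'⁻¹ = b * z := by
  have hτ := le_normalizer h.τA
  obtain ⟨a, ha, c, k⟩ := h.lift h.τA hy y2
    (((hc.conj hτ).trans (h.alt.resolve_left hs).2.1).trans hc.symm)
  exact ⟨a, ha, c, (k z h.zA).trans h.τz, (k b h.bA).trans h.τb⟩

theorem liftσ (hs : s ≠ 1) {y : G} (hy : y ∈ HH A) (y2 : y * y = 1) (hc : Cg A y (s * z)) :
    ∃ σ' ∈ A, Commute σ' y ∧ σ' * z * σ'⁻¹ = e ∧ σ' * e * σ'⁻¹ = e * z := by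
  have hσ := le_normalizer h.σA
  obtain ⟨a, ha, c, k⟩ := h.lift h.σA hy y2
    (((hc.conj hσ).trans (h.alt.resolve_left hs).1).trans hc.symm)
  exact ⟨a, ha, c, (k z h.zA).trans h.σz, (k e h.eA).trans h.σe⟩

theorem symm : ∃ s', Loc A S t z b e s' τ σ ∧ (s = 1 ∧ s' = 1 ∨ s ≠ 1 ∧ s' ≠ 1 ∧ s' = s * z) := by
  have e1 : S ⊓ A = closure {b, e} := Set.pair_comm e b ▸ h.eq
  by_cases hs : s = 1
  · exact ⟨s, ⟨h.toStd, h.syl, h.dg.fq_symm, h.tK, h.tS, h.tc, e1, h.sS, h.sb, h.se, h.s2,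
      fun y hy c1 c2 => h.Y y hy c2 c1, h.τA, h.τz, h.τb, h.σA, h.σz, h.σe, Or.inl hs⟩, Or.inl ⟨hs, hs⟩⟩
  obtain ⟨c1, c2, c3⟩ := h.alt.resolve_left hs
  have e2 : s * z * z = s := by rw [mul_assoc, h.dg.z2, mul_one]
  have se : Commute (s * z) e := h.se.mul_left h.dg.fq_ze
  have sb : Commute (s * z) b := h.sb.mul_left h.dg.fq_zb
  refine ⟨s * z, ⟨h.toStd, h.syl, h.dg.fq_symm, h.tK, h.tS, h.tc, e1, mul_mem h.sS h.zS, sb, se,
    h.Ysq (mul_mem h.sS h.zS) se sb, fun y hy c1 c2 => ?_, h.τA, h.τz, h.τb, h.σA, h.σz, h.σe,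
    Or.inr ⟨e2.symm ▸ c2, c1, fun ρ hρ k => ?_⟩⟩, Or.inr ⟨hs, fun k => (h.sK hs).2 ?_, rfl⟩⟩
  · rw [e2]
    have := h.Y y hy c2 c1
    tauto
  · rw [← conj_mul, ← (h.zc hρ).eq, mul_inv_cancel_right]
    exact (c3 ρ hρ ((h.sw_symm hρ).1 k)).mul_right (h.S_le h.zS)
  · rw [← e2, k, one_mul]
    exact Cg.refl _ _

theorem invA {a : G} (ha : a ∈ A) (a2 : a * a = 1) (a1 : a ≠ 1) : ∃ c ∈ A, c * a * c⁻¹ = z := by
  obtain ⟨g, hg, k⟩ := h.sylA.exists_conj_mem ha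
    (isPGroup_zpowers_of_pow (k := 1) (by rw [pow_one, pow_two, a2]))
  have key : ∀ u ∈ A, u * (g * a * g⁻¹) * u⁻¹ = z → ∃ c ∈ A, c * a * c⁻¹ = z := fun u hu e =>
    ⟨u * g, mul_mem hu hg, by rw [← e]; group⟩
  rcases h.dg.fq_inv k (by rw [conj_mul, a2, mul_one, mul_inv_cancel]) with k | k | k | k | k | k
  · exact absurd (conj_eq_one_iff.1 k) a1
  · exact ⟨g, hg, k⟩
  · exact key _ (inv_mem h.σA) (by rw [k, ← h.σz]; group)
  · exact key _ h.σA (by rw [k, ← conj_mul, h.σz, h.σe]; simp only [h.dg.fq_nf])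
  · exact key _ (inv_mem h.τA) (by rw [k, ← h.τz]; group)
  · exact key _ h.τA (by rw [k, ← conj_mul, h.τz, h.τb]; simp only [h.dg.fq_nf])

theorem card_le {P : Subgroup G} {g : G} (hP : IsPGroup 2 P) (hle : P ≤ cj g (HH A)) :
    Nat.card P ≤ Nat.card S := ((h.syl.cj g).card_le hP hle).trans_eq (card_cj g S)

theorem chg {u : G} (uS : u ∈ S) (uK : u ∈ KK A) (u2 : u * u = 1) (u1 : u ≠ 1) (uc : ∀ y ∈ S, Commute u y) :
    Loc A S u z e b s σ τ := 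
  { h with
    dg := { h.dg with t2 := u2, te := uc e h.eS, tb := uc b h.bS, tD := fun k => u1 (h.DK k uK) }
    tK := uK
    tS := uS
    tc := uc }

/-- a nontrivial normal subgroup of `D` contains `z` -/
theorem z_of_D {N : Subgroup G} {d : G} (hd : d ∈ closure ({e, b} : Set G)) (hN : d ∈ N) (d1 : d ≠ 1)
    (hn : ∀ u ∈ closure ({e, b} : Set G), u * d * u⁻¹ ∈ N) : z ∈ N := by
  have k1 := mul_mem hN (hn e DG.fq_e_mem)
  have k2 := mul_mem hN (hn b DG.fq_b_mem)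
  have k3 := mul_mem hN hN
  rcases h.dg.fq_mem hd with k | k | k | k | k | k | k | k
  · exact absurd k d1
  · exact k ▸ hN
  all_goals
    rw [k] at k1 k2 k3
    simp only [h.dg.fq_nf] at k1 k2 k3
    assumption

theorem bas_toY {c : G} (cS : c ∈ S) (ce : Commute c e) (cb : Commute c b) (c2 : c * c = 1) :
    ∃ a ∈ A, a * (e * c) * a⁻¹ = c ∨ a * (e * c) * a⁻¹ = z * c := by
  have cz := h.dg.fq_cz ce cb
  obtain ⟨a, ha, k, k1, k2⟩ : ∃ a ∈ A, (Commute a c ∨ Commute a (z * c)) ∧ a * z * a⁻¹ = e ∧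
      a * e * a⁻¹ = e * z := by
    have hz : Cg A c z → z * c ∈ KK A := fun k => (k.mul_left z).mem_K (h.dg.z2 ▸ one_mem _)
    have k1 : c ∈ KK A ∨ z * c ∈ KK A → ∃ a ∈ A, (Commute a c ∨ Commute a (z * c)) ∧
        a * z * a⁻¹ = e ∧ a * e * a⁻¹ = e * z := fun k =>
      ⟨σ, h.σA, k.imp (fun k => k σ h.σA) fun k => k σ h.σA, h.σz, h.σe⟩
    by_cases hs : s = 1
    · refine k1 ?_
      rcases h.Y c cS ce cb with k | k | k | k
      exacts [Or.inl k, Or.inr (hz k), Or.inl (k.mem_K (hs ▸ one_mem _)),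
        Or.inr (hz (by rwa [hs, one_mul] at k))]
    rcases h.Y c cS ce cb with k | k | k | k
    · exact k1 (Or.inl k)
    · exact k1 (Or.inr (hz k))
    · obtain ⟨a, ha, k2, k3⟩ := h.liftσ hs (h.S_le (mul_mem h.zS cS))
        (by rw [bas_cc cz.symm, c2, h.dg.z2, mul_one])
        (by rw [← (h.zc h.sS).eq]; exact k.mul_left z)
      exact ⟨a, ha, Or.inr k2, k3⟩
    · obtain ⟨a, ha, k2, k3⟩ := h.liftσ hs (h.S_le cS) c2 k
      exact ⟨a, ha, Or.inl k2, k3⟩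
  rcases k with k | k
  · refine ⟨a⁻¹, inv_mem ha, Or.inr ?_⟩
    rw [← k1, inv_inv, mul_assoc, mul_assoc, ← k.eq]
    group
  · refine ⟨a, ha, Or.inl ?_⟩
    rw [show e * c = e * z * (z * c) by simp only [h.dg.fq_nf], ← conj_mul, ← conj_mul, k1, k2, k.eq,
      mul_inv_cancel_right]
    simp only [h.dg.fq_nf]

/-- an involution of `S` that does not swap is conjugate under `A` into `Y` -/
theorem toY {i : G} (hi : i ∈ S) (i2 : i * i = 1) (hn : ¬ Sw z e b i) :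
    ∃ a ∈ A, a * i * a⁻¹ ∈ S ∧ Commute (a * i * a⁻¹) e ∧ Commute (a * i * a⁻¹) b := by
  obtain ⟨d, hd, c, cS, ce, cb, rfl⟩ := h.dec hi hn
  have c2 : c * c = 1 := by
    rcases h.bas_sq hd ce cb with k | k
    · exact k ▸ i2
    · have := h.Ysq cS ce cb
      rw [eq_inv_of_mul_eq_one_right (k.symm.trans i2), inv_mem_iff] at this
      exact absurd this h.zK
  have fin : (∃ a ∈ A, a * (d * c) * a⁻¹ = c ∨ a * (d * c) * a⁻¹ = z * c) → ∃ a ∈ A,
      a * (d * c) * a⁻¹ ∈ S ∧ Commute (a * (d * c) * a⁻¹) e ∧ Commute (a * (d * c) * a⁻¹) b := by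
    rintro ⟨a, ha, k | k⟩ <;> refine ⟨a, ha, ?_⟩ <;> rw [k]
    exacts [⟨cS, ce, cb⟩, ⟨mul_mem h.zS cS, Commute.mul_left h.dg.fq_ze ce,
      Commute.mul_left h.dg.fq_zb cb⟩]
  refine fin ?_
  rcases hd with k | k | k | k <;> rw [k]
  · exact ⟨1, one_mem _, Or.inl (by group)⟩
  · exact h.bas_toY cS ce cb c2
  · obtain ⟨s', h', -⟩ := h.symm
    exact h'.bas_toY cS cb ce c2
  · rw [k, bas_cc (ce.mul_right cb).symm, c2, h.dg.eb, mul_one] at i2
    exact absurd i2 h.dg.z1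

end Loc

end CfsgLib.D8S
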