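import Cfsg.Agent.Lib.D8S.Defs
import Cfsg.Agent.Lib.GMS.Fld
import Cfsg.Agent.S2692

/-! PU: an outer automorphism of `U₅(2)` does not centralise `3 A₆` (plans/D8S.md) -/

set_option autoImplicit false
set_option linter.unusedSectionVars false

namespace CfsgLib.D8S

open Subgroup Cfsg CfsgLib.Tech CfsgLib.Dih8

section

open Module Matrix CfsgLib.ClAut

/-- a central element of a perfect linear group has determinant one on each of its eigenspaces -/
theorem pu_eig {F V A : Type*} [Field F] [AddCommGroup V] [Module F V] [FiniteDimensional F V] [Group A]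
    (hp : commutator A = ⊤) (r : A →* Module.End F V) {ζ : A} (hc : ∀ a, a * ζ = ζ * a) (ω : F) :
    ω ^ finrank F (Module.End.eigenspace (r ζ) ω) = 1 := by
  have hm : ∀ a, ∀ v ∈ Module.End.eigenspace (r ζ) ω, r a v ∈ Module.End.eigenspace (r ζ) ω := fun a v hv => by
    rw [Module.End.mem_eigenspace_iff] at hv ⊢
    rw [← Module.End.mul_apply, ← map_mul, ← hc, map_mul, Module.End.mul_apply, hv, map_smul]
  let φ : A →* F := ⟨⟨fun a => LinearMap.det ((r a).restrict (hm a)), by
    rw [← map_one (LinearMap.det (M := Module.End.eigenspace (r ζ) ω))]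
    congr 1; ext v; simp⟩, fun a b => by
      exact (congrArg LinearMap.det (by ext v; simp)).trans (map_mul LinearMap.det _ _)⟩
  have h1 : φ.toHomUnits ζ = 1 := Abelianization.commutator_subset_ker φ.toHomUnits (hp ▸ mem_top ζ)
  have h2 : φ ζ = 1 := congrArg Units.val h1
  have h3 : (r ζ).restrict (hm ζ) = ω • LinearMap.id := by
    ext v
    simpa using Module.End.mem_eigenspace_iff.1 v.2
  rwa [show φ ζ = LinearMap.det ((r ζ).restrict (hm ζ)) from rfl, h3, LinearMap.det_smul, LinearMap.det_id,
    mul_one] at h2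

theorem pu_lin {F A : Type*} [Field F] [Fintype F] [Group A] (hF : Fintype.card F = 4) (hp : commutator A = ⊤)
    (ρ : A →* GL (Fin 5) F) {ζ : A} (hc : ∀ a, a * ζ = ζ * a) (h3 : ζ ^ 3 = 1) (x : GamL (Fin 5) F)
    (h1 : x.right ≠ 1) (hx : gamAut (Fin 5) F x (ρ ζ) = ρ ζ) : ρ ζ = 1 := by
  have h4 : Nat.card F = 4 := Nat.card_eq_fintype_card.trans hF
  let r : A →* Module.End F (Fin 5 → F) :=
    (toLinAlgEquiv' (R := F) (n := Fin 5)).toMonoidHom.comp ((Units.coeHom _).comp ρ)
  have hr : ∀ a v, r a v = (ρ a : Matrix (Fin 5) (Fin 5) F) *ᵥ v := fun a v => rfl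
  have key : ∀ ω : F, ω ≠ 0 → ω ≠ 1 → ∀ v, r ζ v = ω • v → v = 0 := fun ω w0 w1 => by
    obtain ⟨ww, hw⟩ := GMS.four_cases h4 w0 w1
    have n1 : ω ≠ x.right ω := fun e => h1 (RingEquiv.ext fun a => by
      rcases hw a with rfl | rfl | rfl | rfl <;> simp [← e])
    have n2 := Submodule.finrank_add_finrank_le_of_disjoint
      (Module.End.disjoint_genEigenspace (r ζ) n1 1 1)
    have n3 : Nat.card (Module.End.eigenspace (r ζ) ω) ≤ Nat.card (Module.End.eigenspace (r ζ) (x.right ω)) :=
      Nat.card_le_card_of_injective (fun v => ⟨gamAct x v, by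
        rw [Module.End.mem_eigenspace_iff, hr, ← hx, gamAut_mulVec, ← hr,
          Module.End.mem_eigenspace_iff.1 v.2, gamAct_smul]⟩)
        fun a b e => Subtype.ext (gamAct_injective x (congrArg Subtype.val e))
    rw [Module.natCard_eq_pow_finrank (K := F) (V := Module.End.eigenspace (r ζ) ω),
      Module.natCard_eq_pow_finrank (K := F) (V := Module.End.eigenspace (r ζ) (x.right ω)), h4,
      Nat.pow_le_pow_iff_right (by norm_num)] at n3
    have n4 := pu_eig hp r hc ω
    rw [finrank_fin_fun] at n2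
    have n5 : finrank F (Module.End.eigenspace (r ζ) ω) = 0 := by
      have : finrank F (Module.End.eigenspace (r ζ) ω) ≤ 2 := by
        change finrank F (Module.End.eigenspace (r ζ) ω) + finrank F (Module.End.eigenspace (r ζ) _) ≤ 5 at n2
        omega
      generalize finrank F (Module.End.eigenspace (r ζ) ω) = d at *
      interval_cases d
      · rfl
      · exact absurd (by simpa using n4) w1
      · exact absurd (by linear_combination n4 - ww) w0
    intro v hv
    have := Submodule.finrank_eq_zero.1 n5 ▸ Module.End.mem_eigenspace_iff.2 hv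
    exact (Submodule.mem_bot F).1 this
  obtain ⟨ω, w0, w1⟩ : ∃ ω : F, ω ≠ 0 ∧ ω ≠ 1 := by
    by_contra hn
    refine h1 (RingEquiv.ext fun a => ?_)
    by_cases a0 : a = 0
    · simp [a0]
    · have : a = 1 := by_contra fun a1 => hn ⟨a, a0, a1⟩
      simp [this]
  have ww := (GMS.four_cases h4 w0 w1).1
  have h2 : (2 : F) = 0 := by
    have : ((4 : ℕ) : F) = 0 := hF ▸ FiniteField.cast_card_eq_zero F
    exact pow_eq_zero_iff two_ne_zero |>.1 (by rw [← this]; norm_num)
  have z3 : ∀ v, r ζ (r ζ (r ζ v)) = v := fun v => by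
    rw [← Module.End.mul_apply, ← Module.End.mul_apply, ← map_mul, ← map_mul, ← pow_three', h3, map_one]; rfl
  have fin : ∀ v, r ζ v = v := fun v => by
    have a1 := key ω w0 w1 (r ζ (r ζ v - v) - (ω + 1) • (r ζ v - v)) (by
      simp only [map_sub, map_smul, z3]
      match_scalars
      · linear_combination -ww - ω * h2
      · linear_combination -h2 * (ω + 1)
      · linear_combination ww + (2 * ω + 1) * h2)
    exact sub_eq_zero.1 (key (ω + 1) (fun e => w1 (by linear_combination e - h2)) (fun e => w0 (by simpa using e))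
      _ (sub_eq_zero.1 a1))
  refine Units.ext (toLinAlgEquiv'.injective ?_)
  rw [Units.val_one, map_one]
  exact LinearMap.ext fin

end

variable {G : Type*} [Group G] [Finite G] {A K : Subgroup G} {t : G}

theorem postU (nK : K.Normal) (cK : centralizer (K : Set G) = ⊥) {F : Type} [Field F] [Fintype F]
    (hF : Fintype.card F = 4) (e : K ≃* PSU 5 F 2) (ht : t ∉ K) (hle : A ≤ K) (hp : ⁅A, A⁆ = A)
    (tA : t ∈ centralizer (A : Set G)) {ζ : G} (hζ : ζ ∈ A) (hc : ζ ∈ centralizer (A : Set G)) (h3 : ζ ^ 3 = 1) :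
    ζ = 1 := by
  have hF' : Fintype.card F = 2 ^ 2 := hF
  have hZ : center (SU 5 F 2) = ⊥ := card_eq_one.1 (Unitary.card_center_SU hF' (by norm_num))
  let j : PSU 5 F 2 ≃* SU 5 F 2 := (QuotientGroup.quotientMulEquivOfEq hZ).trans QuotientGroup.quotientBot
  have hj : ∀ s : SU 5 F 2, j (QuotientGroup.mk s) = s := fun s => rfl
  have hj' : ∀ y, QuotientGroup.mk (j y) = y := fun y => j.injective (hj _)
  let ρ : K →* GL (Fin 5) F := (ClAut.suTau 5 F 2).comp (e.trans j).toMonoidHom
  have hρ : Function.Injective ρ := ClAut.suTau_injective.comp (e.trans j).injective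
  obtain ⟨x, hx⟩ := ClAut.psuInd_surjective hF' (by norm_num) (by norm_num)
    (e.symm.trans ((MulAut.conjNormal t).trans e))
  have act : ∀ k : K, ρ (MulAut.conjNormal t k) = ClAut.gamAut (Fin 5) F x (ρ k) := fun k => by
    obtain ⟨s', hs'⟩ := ClAut.exists_gamAut_eq ClAut.gamU_le x (j (e k))
    have := ClAut.gamInd_mk (hτ := ClAut.suTau_injective) (hΓ := ClAut.gamU_le) x hs'
    rw [hj'] at this
    have h2 : e (MulAut.conjNormal t k) = QuotientGroup.mk s' := by
      rw [← this, show ClAut.gamInd _ _ _ _ x = _ from hx]; simp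
    show ClAut.suTau 5 F 2 (j (e _)) = _
    rw [h2, hj, hs']; rfl
  by_cases h1 : x.1.right = 1
  · exfalso
    have hg := ClAut.mem_gamU.1 x.2
    have d3 := Unitary.det_norm_of_pres hF' hg
    simp only [Units.coeHom_apply] at d3
    generalize hd : (x.1.left : Matrix (Fin 5) (Fin 5) F).det = δ at d3
    let s : SU 5 F 2 := Unitary.mkSU (δ • (x.1.left : Matrix (Fin 5) (Fin 5) F))
      (by rw [Matrix.det_smul, hd, Fintype.card_fin]; linear_combination (δ ^ 3 + 1) * d3) fun u v => by
        rw [Matrix.smul_mulVec, Matrix.smul_mulVec, Unitary.herm_smul_left, Unitary.herm_smul_right,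
          (Unitary.mem_GU_iff' _).1 hg]
        linear_combination hermForm 5 F 2 u v * d3
    obtain ⟨k, hk⟩ := (e.trans j).surjective s
    have hk' : (ρ k : Matrix (Fin 5) (Fin 5) F) = δ • (x.1.left : Matrix (Fin 5) (Fin 5) F) := by
      show ((ClAut.suTau 5 F 2 ((e.trans j) k) : GL (Fin 5) F) : Matrix (Fin 5) (Fin 5) F) = _
      rw [hk]; rfl
    have : (k : G)⁻¹ * t ∈ centralizer (K : Set G) := fun y hy => by
      have n1 : ρ (MulAut.conjNormal t (⟨y, hy⟩ : K) * k) = ρ (k * ⟨y, hy⟩) := by
        rw [map_mul, map_mul, act, ClAut.gamAut_apply, h1, map_one, MulAut.one_apply]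
        refine Units.ext ?_
        simp only [Units.val_mul, hk', Matrix.mul_smul, Matrix.smul_mul, Units.inv_mul_cancel_right]
      have n2 : t * y * t⁻¹ * k = k * y := congrArg Subtype.val (hρ n1)
      calc y * ((k : G)⁻¹ * t) = (k : G)⁻¹ * (k * y) * (k : G)⁻¹ * t := by group
        _ = _ := by rw [← n2]; group
    rw [cK, mem_bot, inv_mul_eq_one] at this
    exact ht (this ▸ k.2)
  · have hp' : commutator A = ⊤ :=
      map_injective A.subtype_injective (by
        rw [map_subtype_commutator, hp, ← MonoidHom.range_eq_map, range_subtype])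
    have := pu_lin hF hp' (ρ.comp (inclusion hle)) (ζ := ⟨ζ, hζ⟩) (fun a => Subtype.ext (hc a a.2))
      (Subtype.ext h3) x h1 (by
        rw [MonoidHom.comp_apply, ← act]
        congr 1
        exact Subtype.ext (by simp [← tA ζ hζ]))
    exact congrArg Subtype.val (hρ (this.trans (map_one ρ).symm))

end CfsgLib.D8S
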